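import Mathlib

/-!
# Invariant sets, invariant matchings and invariant halves for 2-groups
-/

set_option autoImplicit false

open MulAction Equiv Equiv.Perm
open scoped Pointwise

namespace Cfsg.Agent.H99

variable {α : Type*} [Fintype α] [DecidableEq α]

/-- An element of a conjugacy-like orbit of odd size is fixed: if `X` has odd index, a `2`-group
`R` lies in a conjugate of `X`. -/
theorem exists_conj_le {G : Type*} [Group G] [Finite G] {p : ℕ} [Fact p.Prime] (R X : Subgroup G)
    (hR : IsPGroup p R) (hX : ¬ p ∣ X.index) : ∃ g : G, ∀ r ∈ R, g⁻¹ * r * g ∈ X := by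
  obtain ⟨q, hq⟩ := hR.nonempty_fixed_point_of_prime_not_dvd_card (G ⧸ X)
    (by rwa [← Subgroup.index_eq_card])
  obtain ⟨g, rfl⟩ := QuotientGroup.mk_surjective q
  refine ⟨g, fun r hr => ?_⟩
  have h := hq ⟨r, hr⟩
  have h2 : ((r * g : G) : G ⧸ X) = ((g : G) : G ⧸ X) := h
  have h3 := (QuotientGroup.eq.mp h2)
  have h4 := X.inv_mem h3
  convert h4 using 1
  group

/-- invariant subsets of given size -/
theorem exists_set {G : Type*} [Group G] [MulAction G α] {p : ℕ} [Fact p.Prime] (R : Subgroup G)
    (hR : IsPGroup p R) (m : ℕ) (hm : ¬ p ∣ (Fintype.card α).choose m) :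
    ∃ s : Set α, s.ncard = m ∧ R ≤ stabilizer G s := by
  obtain ⟨s, hs⟩ := hR.nonempty_fixed_point_of_prime_not_dvd_card (Set.powersetCard α m)
    (by rwa [Set.powersetCard.card, Nat.card_eq_fintype_card])
  refine ⟨(s : Set α), Set.powersetCard.ncard_eq s, fun r hr => ?_⟩
  rw [← Set.powersetCard.stabilizer_coe]
  exact hs ⟨r, hr⟩

theorem odd_doubleFactorial (m : ℕ) : ¬ 2 ∣ (2 * m + 1).doubleFactorial := by
  induction m with
  | zero => simp
  | succ k ih =>
    have : 2 * (k + 1) + 1 = (2 * k + 1) + 2 := by ring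
    rw [this, Nat.doubleFactorial_add_two]
    intro h
    rcases (Nat.prime_two.dvd_mul).mp h with h | h
    · omega
    · exact ih h

/-- invariant perfect matchings -/
theorem exists_tau (R : Subgroup (Perm α)) (hR : IsPGroup 2 R) {m : ℕ} (hm : 1 ≤ m)
    (hα : Fintype.card α = 2 * m) :
    ∃ τ : Perm α, τ * τ = 1 ∧ (∀ x, τ x ≠ x) ∧ ∀ g ∈ R, g * τ = τ * g := by
  obtain ⟨τ, hτ⟩ := (exists_with_cycleType_iff α (m := Multiset.replicate m 2)).mpr (by
    constructor
    · rw [Multiset.sum_replicate, hα, smul_eq_mul, mul_comm]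
    · intro a ha
      rw [Multiset.eq_of_mem_replicate ha])
  have hcard := Subgroup.card_mul_index (Subgroup.centralizer {τ})
  rw [nat_card_centralizer, hτ, Multiset.sum_replicate, hα, Multiset.prod_replicate,
    smul_eq_mul, mul_comm m 2, Nat.sub_self, Nat.factorial_zero, one_mul, Nat.card_perm,
    Nat.card_eq_fintype_card, hα] at hcard
  have h2 : (Multiset.replicate m 2).toFinset = {2} := by
    rw [Multiset.toFinset_replicate, if_neg (by omega)]
  rw [h2, Finset.prod_singleton, Multiset.count_replicate_self] at hcard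
  obtain ⟨k, rfl⟩ : ∃ k, m = k + 1 := ⟨m - 1, by omega⟩
  have h3 : (2 * (k + 1)).factorial = (2 * k + 1 + 1).factorial := by ring_nf
  rw [h3, Nat.factorial_eq_mul_doubleFactorial (2 * k + 1), show 2 * k + 1 + 1 = 2 * (k + 1) by ring,
    Nat.doubleFactorial_two_mul] at hcard
  have hidx : (Subgroup.centralizer {τ}).index = (2 * k + 1).doubleFactorial :=
    Nat.eq_of_mul_eq_mul_left (by positivity) hcard
  obtain ⟨g, hg⟩ := exists_conj_le (p := 2) R (Subgroup.centralizer {τ}) hR
    (by rw [hidx]; exact odd_doubleFactorial k)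
  have hττ : τ * τ = 1 := by
    haveI : Fact (Nat.Prime 2) := ⟨Nat.prime_two⟩
    rw [← pow_two, pow_prime_eq_one_iff, hτ]
    exact fun c hc => Multiset.eq_of_mem_replicate hc
  have hfix : ∀ x, τ x ≠ x := by
    have hs : τ.support = Finset.univ := by
      apply Finset.eq_univ_of_card
      rw [← sum_cycleType, hτ, Multiset.sum_replicate, hα, smul_eq_mul, mul_comm]
    intro x
    rw [← mem_support, hs]
    exact Finset.mem_univ x
  refine ⟨g * τ * g⁻¹, ?_, fun x hx => ?_, fun r hr => ?_⟩
  · have : g * τ * g⁻¹ * (g * τ * g⁻¹) = g * (τ * τ) * g⁻¹ := by group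
    rw [this, hττ]; group
  · apply hfix (g⁻¹ x)
    have h5 : g (τ (g⁻¹ x)) = x := hx
    conv_rhs => rw [← h5]
    simp
  · have h := Subgroup.mem_centralizer_singleton_iff.mp (hg r hr)
    calc r * (g * τ * g⁻¹) = g * ((g⁻¹ * r * g) * τ) * g⁻¹ := by group
      _ = g * (τ * (g⁻¹ * r * g)) * g⁻¹ := by rw [h]
      _ = g * τ * g⁻¹ * r := by group

/-- invariant halves -/
theorem exists_half (R : Subgroup (Perm α)) (hR : IsPGroup 2 R) {a : ℕ}
    (hα : Fintype.card α = 2 ^ (a + 1)) :
    ∃ s : Finset α, s.card = 2 ^ a ∧ ∀ g ∈ R, g • s = s ∨ g • s = sᶜ := by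
  classical
  set S : Finset (Finset α) := Finset.powersetCard (2 ^ a) Finset.univ with hS
  set f : Finset α → Finset (Finset α) := fun s => {s, sᶜ} with hf
  have hcompl : ∀ s : Finset α, s ∈ S → sᶜ ∈ S := by
    intro s hs
    rw [hS, Finset.mem_powersetCard_univ] at hs ⊢
    rw [Finset.card_compl, hs, hα, pow_succ]
    omega
  have hne : ∀ s : Finset α, s ∈ S → s ≠ sᶜ := by
    intro s hs h
    rw [hS, Finset.mem_powersetCard_univ] at hs
    have h1 : s = ∅ := by
      have h0 : Disjoint s sᶜ := disjoint_compl_right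
      rw [← h, disjoint_self] at h0
      exact h0
    rw [h1, Finset.card_empty] at hs
    exact absurd hs.symm (by positivity)
  have hsm : ∀ (g : Perm α) (s : Finset α), g • sᶜ = (g • s)ᶜ := by
    intro g s
    ext x
    rw [Finset.mem_compl, ← Finset.inv_smul_mem_iff, Finset.mem_compl, Finset.inv_smul_mem_iff]
  have hff : ∀ (g : Perm α) (s : Finset α), g • f s = f (g • s) := by
    intro g s
    simp only [hf]
    rw [Finset.smul_finset_insert, Finset.smul_finset_singleton, hsm]
  have hfib : ∀ s t : Finset α, f s = f t ↔ (s = t ∨ s = tᶜ) := by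
    intro s t
    constructor
    · intro h
      have : s ∈ f t := by rw [← h]; simp [hf]
      simpa [hf] using this
    · rintro (rfl | rfl)
      · rfl
      · simp only [hf]
        rw [compl_compl, Finset.pair_comm]
  have hcard : S.card = 2 * (S.image f).card := by
    rw [Finset.card_eq_sum_card_image f S]
    have : ∀ b ∈ S.image f, (S.filter (fun s => f s = b)).card = 2 := by
      intro b hb
      obtain ⟨t, ht, rfl⟩ := Finset.mem_image.mp hb
      have : S.filter (fun s => f s = f t) = {t, tᶜ} := by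
        ext s
        rw [Finset.mem_filter, hfib]
        simp only [Finset.mem_insert, Finset.mem_singleton]
        constructor
        · exact fun h => h.2
        · intro h
          refine ⟨?_, h⟩
          rcases h with rfl | rfl
          · exact ht
          · exact hcompl t ht
      rw [this, Finset.card_pair (hne t ht)]
    rw [Finset.sum_congr rfl this, Finset.sum_const, smul_eq_mul, mul_comm]
  have hodd : ¬ 2 ∣ (S.image f).card := by
    intro h
    have h4 : 2 ^ 2 ∣ S.card := by
      rw [hcard, pow_two]; exact Nat.mul_dvd_mul_left 2 h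
    rw [hS, Finset.card_powersetCard, Finset.card_univ, hα] at h4
    have h5 := Nat.factorization_choose_prime_pow (p := 2) (n := a + 1) (k := 2 ^ a)
      Nat.prime_two (Nat.pow_le_pow_right (by norm_num) (by omega)) (by positivity)
    rw [Nat.prime_two.factorization_pow, Finsupp.single_eq_same] at h5
    have h6 := (Nat.prime_two.pow_dvd_iff_le_factorization (n := (2 ^ (a + 1)).choose (2 ^ a))
      (Nat.choose_pos (Nat.pow_le_pow_right (by norm_num) (by omega))).ne').mp h4
    omega
  let Sub : SubMulAction (Perm α) (Finset (Finset α)) :=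
    { carrier := (S.image f : Finset (Finset (Finset α)))
      smul_mem' := by
        intro g b hb
        rw [Finset.mem_coe, Finset.mem_image] at hb ⊢
        obtain ⟨t, ht, rfl⟩ := hb
        refine ⟨g • t, ?_, (hff g t).symm⟩
        rw [hS, Finset.mem_powersetCard_univ] at ht ⊢
        rw [Finset.card_smul_finset, ht] }
  have hSub : Nat.card Sub = (S.image f).card := by
    change Nat.card (S.image f : Finset (Finset (Finset α))) = _
    rw [Nat.card_eq_fintype_card, Fintype.card_coe]
  obtain ⟨⟨b, hb⟩, hfix⟩ := hR.nonempty_fixed_point_of_prime_not_dvd_card Sub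
    (by rw [hSub]; exact hodd)
  have hb' : b ∈ S.image f := hb
  obtain ⟨t, ht, rfl⟩ := Finset.mem_image.mp hb'
  refine ⟨t, ?_, fun g hg => ?_⟩
  · rwa [hS, Finset.mem_powersetCard_univ] at ht
  · have h := hfix ⟨g, hg⟩
    have h2 : g • f t = f t := congrArg Subtype.val h
    rw [hff] at h2
    exact (hfib _ _).mp h2

end Cfsg.Agent.H99
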