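import Cfsg.Agent.SporadicRecognition.SuzOrder
import Cfsg.Agent.H52.StrLink

/-!
# The Suzuki group has no strongly `5`-embedded subgroup

Two nontrivial `5`-elements are linked when a chain of pairwise commuting nontrivial `5`-elements joins them.  The
stabilizer `M` of the link class of `x = ab` contains `d` and `e`, which commute with `x`, and `a`, `b`, `f`, `g`, which
commute with an element `y` of order `5` commuting with `x`.  The element `dbc` of order `10` commutes with its square `z`,
and `x`, `u₁`, `u₂`, `z` is a chain; so `c` lies in `M` too.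
-/

set_option autoImplicit false
set_option maxRecDepth 100000

namespace Cfsg.Agent.H99.SuzFive

open Cfsg Cfsg.Spor Cfsg.Agent.Lib.PermNet Cfsg.Agent.Lib.PermNetOrbit Cfsg.Agent.SporadicRecognition.SuzPhi
  Cfsg.Agent.SporadicRecognition.SuzOrder Cfsg.Agent.H998.StrP Cfsg.Agent.H52.StrLink

theorem el_append (w w' : List Suz.Gen) : el (w ++ w') = el w * el w' := by
  rw [el, List.map_append, List.prod_append]; rfl

theorem el_eq {w w' : List Suz.Gen} (h : checkEq 11 (wd w) (wd w') = true) : el w = el w' := by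
  apply φ_injective
  rw [φ_el, φ_el]
  exact wperm_eq_of_checkEq (wd_ok w) (wd_ok w') h

theorem comm {w w' : List Suz.Gen} (h : checkEq 11 (wd (w ++ w')) (wd (w' ++ w)) = true) : Commute (el w) (el w') := by
  show el w * el w' = el w' * el w
  rw [← el_append, ← el_append]
  exact el_eq h

theorem pow_five {w : List Suz.Gen} (h : triv (rp w 5) = true) : el w ^ 5 = 1 := by
  apply φ_injective
  rw [map_pow, φ_el, wperm_wd, ← rp_prod, map_one]
  exact triv_spec h

theorem ne_one {w : List Suz.Gen} (p : ℕ) (h : Nat.beq (ptWord (wd w) p) p = false) : el w ≠ 1 := by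
  intro h0
  have h1 : φ (el w) p = p := by rw [h0, map_one]; rfl
  rw [φ_el, ← ptWord_eq (wd_ok w)] at h1
  rw [h1] at h
  exact absurd h (by simp)

theorem isEl {w : List Suz.Gen} (p : ℕ) (h : Nat.beq (ptWord (wd w) p) p = false) (h5 : triv (rp w 5) = true) :
    El (⊤ : Subgroup Suz) 5 (el w) :=
  ⟨Subgroup.mem_top _, ne_one p h, 1, by rw [pow_one]; exact pow_five h5⟩

def wx : List Suz.Gen := [.a, .b]
def wy : List Suz.Gen := [.c, .b, .a, .b, .a, .d, .c, .d, .b, .c, .d, .c, .b, .a, .b, .c, .a, .b, .e]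
def w1 : List Suz.Gen := [.c, .b, .a, .d, .c, .b, .a, .b, .c, .d, .c, .d, .b, .c, .e]
def w2 : List Suz.Gen := [.c, .b, .a, .b, .c, .d, .e, .a, .b, .c, .d, .e, .b, .c, .a, .b]
def wz : List Suz.Gen := [.d, .b, .c, .d, .b, .c]

theorem elx : El (⊤ : Subgroup Suz) 5 (el wx) := isEl 1 (by decide +kernel) (by decide +kernel)
theorem ely : El (⊤ : Subgroup Suz) 5 (el wy) := isEl 4 (by decide +kernel) (by decide +kernel)
theorem el1 : El (⊤ : Subgroup Suz) 5 (el w1) := isEl 1 (by decide +kernel) (by decide +kernel)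
theorem el2 : El (⊤ : Subgroup Suz) 5 (el w2) := isEl 1 (by decide +kernel) (by decide +kernel)
theorem elz : El (⊤ : Subgroup Suz) 5 (el wz) := isEl 1 (by decide +kernel) (by decide +kernel)

theorem lky : Lk (⊤ : Subgroup Suz) 5 (el wx) (el wy) := Lk.single elx ely (comm (by decide +kernel))
theorem lk1 : Lk (⊤ : Subgroup Suz) 5 (el wx) (el w1) := Lk.single elx el1 (comm (by decide +kernel))
theorem lk2 : Lk (⊤ : Subgroup Suz) 5 (el wx) (el w2) := lk1.trans (Lk.single el1 el2 (comm (by decide +kernel)))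
theorem lkz : Lk (⊤ : Subgroup Suz) 5 (el wx) (el wz) := lk2.trans (Lk.single el2 elz (comm (by decide +kernel)))

theorem ma : el [.a] ∈ Stab (⊤ : Subgroup Suz) 5 (el wx) := mem_of_commute lky (comm (by decide +kernel))
theorem mb : el [.b] ∈ Stab (⊤ : Subgroup Suz) 5 (el wx) := mem_of_commute lky (comm (by decide +kernel))
theorem mf : el [.f] ∈ Stab (⊤ : Subgroup Suz) 5 (el wx) := mem_of_commute lky (comm (by decide +kernel))
theorem mg : el [.g] ∈ Stab (⊤ : Subgroup Suz) 5 (el wx) := mem_of_commute lky (comm (by decide +kernel))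
theorem md : el [.d] ∈ Stab (⊤ : Subgroup Suz) 5 (el wx) := mem_of_commute (Lk.refl _) (comm (by decide +kernel))
theorem me : el [.e] ∈ Stab (⊤ : Subgroup Suz) 5 (el wx) := mem_of_commute (Lk.refl _) (comm (by decide +kernel))
theorem mdbc : el [.d, .b, .c] ∈ Stab (⊤ : Subgroup Suz) 5 (el wx) := mem_of_commute lkz (comm (by decide +kernel))

theorem mc : el [.c] ∈ Stab (⊤ : Subgroup Suz) 5 (el wx) := by
  have h : el [.d, .b, .c] = el [.d] * (el [.b] * el [.c]) := by
    rw [← el_append, ← el_append]; rfl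
  have h1 := mdbc
  rw [h] at h1
  exact (Subgroup.mul_mem_cancel_left _ mb).1 ((Subgroup.mul_mem_cancel_left _ md).1 h1)

theorem stab_top : Stab (⊤ : Subgroup Suz) 5 (el wx) = ⊤ := by
  have hS : Subgroup.closure S7 ≤ Stab (⊤ : Subgroup Suz) 5 (el wx) := by
    rw [Subgroup.closure_le]
    rintro g ⟨w, hw, rfl⟩
    simp only [List.mem_cons, List.not_mem_nil, or_false] at hw
    rcases hw with rfl | rfl | rfl | rfl | rfl | rfl | rfl
    · exact ma
    · exact mb
    · exact mc
    · exact md
    · exact me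
    · exact mf
    · exact mg
  rw [closure_S7] at hS
  exact top_le_iff.1 hS

/-- **The Suzuki group has no strongly `5`-embedded subgroup.** -/
theorem nosp_suz_5 {G : Type*} [Group G] [Finite G] (h : Cfsg.Spor.IsoSuz G) : NoSP 5 G := by
  obtain ⟨e⟩ := h
  have : Finite Suz := Finite.of_equiv G e.toEquiv
  have : IsSimpleGroup Suz := simple
  have : IsSimpleGroup ↥(⊤ : Subgroup Suz) := Subgroup.topEquiv.isSimpleGroup
  have : Fact (Nat.Prime 5) := ⟨by norm_num⟩
  have h1 : NoSP 5 ↥(⊤ : Subgroup Suz) := noSP_of_link elx stab_top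
  exact (h1.congr Subgroup.topEquiv.symm).congr e

end Cfsg.Agent.H99.SuzFive
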