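import Mathlib
import Cfsg.Agent.H248.TwF4Dich
import Cfsg.Agent.KFacts.TwF4.Layers
import Cfsg.Agent.KFacts.TwF4.CentR
import Cfsg.Agent.KFacts.TwF4.Irr
import Cfsg.Agent.H939.Opp
import Cfsg.Agent.H939.Elem

/-!
# The subgroup lattice of `²F₄(q)`, `q ≥ 8`, is complemented (task 265, S5900; helper99)

`S : Full σ G`, `A = Z_4 = Z(X_4)`, `Q2 = Z_2 X_3 Z_4 X_5 Z_6`, `s = rot ^ 4`.

* `gen` : `⟨Q2, Q2^s⟩ = G`;
* `oppData` : `Opp.OppData A Q2 s`;
* `cl_of_full`, `cl_2F4`.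
-/

set_option autoImplicit false
set_option linter.unusedSectionVars false

namespace Cfsg.Agent.H99.CL2F4

open Cfsg.Agent.KFacts.TwF4 Cfsg.Agent.KFacts.TwF4.Full Cfsg.Agent.KFacts.TwF4.Arc
open Cfsg.Agent.KFacts.TwF4.Inv Cfsg.Agent.KFacts.TwF4.SylU Cfsg.Agent.KFacts.TwF4.Layers
open Cfsg.Agent.SplitTwo Cfsg.Agent.SplitTwo.ZS Cfsg.Agent.TitsThree.RankTwoZ
open Cfsg.Agent.SplitTwo.RootSysZ Cfsg Cfsg.Lie Cfsg.Agent.H248.TwF4Over
open Cfsg.Agent.H939 Cfsg.Agent.H939.KLat Cfsg.Agent.KFacts.TwF4.Irr Cfsg.Agent.KFacts.TwF4.Perf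

universe u

theorem conj_conj {G : Type*} [Group G] (a b x : G) :
    (a * b * a⁻¹) * x * (a * b * a⁻¹)⁻¹ = a * (b * (a⁻¹ * x * a) * b⁻¹) * a⁻¹ := by group

variable {F : Type*} [Field F] {σ : F →+* F} {G : Type u} [Group G] (S : Full σ G)

/-! ### generation -/

theorem rot_o' (a : ZMod 8) (t : F) : S.rot⁻¹ * S.o a t * S.rot = S.o (a - 1) t := by
  have := S.rot_o (a - 1) t
  rw [sub_add_cancel] at this
  rw [← this]; group

theorem rot_e' (a : ZMod 8) (p u : F) : S.rot⁻¹ * S.e a p u * S.rot = S.e (a - 1) p u := by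
  have := S.rot_e (a - 1) p u
  rw [sub_add_cancel] at this
  rw [← this]; group

/-- `rot n1 rot⁻¹` -/
def r3 : G := S.rot * S.n1 * S.rot⁻¹

/-- `rot² n1 rot⁻²` -/
def r5 : G := S.rot * r3 S * S.rot⁻¹

theorem r3_o (a : ZMod 8) (t : F) : r3 S * S.o a t * (r3 S)⁻¹ = S.o (6 - a) t := by
  rw [r3, conj_conj, rot_o', S.n1_o, S.rot_o]
  congr 1
  ring

theorem r3_e (a : ZMod 8) (p u : F) : r3 S * S.e a p u * (r3 S)⁻¹ = S.e (7 - a) p u := by
  rw [r3, conj_conj, rot_e', S.n1_e, S.rot_e]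
  congr 1
  ring

theorem r5_o (a : ZMod 8) (t : F) : r5 S * S.o a t * (r5 S)⁻¹ = S.o (-a) t := by
  rw [r5, conj_conj, rot_o', r3_o, S.rot_o]
  congr 1
  have : (6 : ZMod 8) - (a - 1) + 1 = 8 - a := by ring
  rw [this, show (8 : ZMod 8) = 0 by decide, zero_sub]

theorem r5_e (a : ZMod 8) (p u : F) : r5 S * S.e a p u * (r5 S)⁻¹ = S.e (1 - a) p u := by
  rw [r5, conj_conj, rot_e', r3_e, S.rot_e]
  congr 1
  have : (7 : ZMod 8) - (a - 1) + 1 = 8 + (1 - a) := by ring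
  rw [this, show (8 : ZMod 8) = 0 by decide, zero_add]

theorem r3_word : r3 S = S.o 5 1 * S.o 1 1 * S.o 5 1 := by
  rw [r3, n1_word' S]
  have e : S.rot * (S.o 4 1 * S.o 0 1 * S.o 4 1) * S.rot⁻¹ =
      (S.rot * S.o 4 1 * S.rot⁻¹) * (S.rot * S.o 0 1 * S.rot⁻¹) * (S.rot * S.o 4 1 * S.rot⁻¹) := by group
  rw [e, S.rot_o, S.rot_o]
  rfl

theorem r5_word : r5 S = S.o 6 1 * S.o 2 1 * S.o 6 1 := by
  rw [r5, r3_word S]
  have e : S.rot * (S.o 5 1 * S.o 1 1 * S.o 5 1) * S.rot⁻¹ =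
      (S.rot * S.o 5 1 * S.rot⁻¹) * (S.rot * S.o 1 1 * S.rot⁻¹) * (S.rot * S.o 5 1 * S.rot⁻¹) := by group
  rw [e, S.rot_o, S.rot_o]
  rfl

/-- A subgroup containing all `X_{2a+1}` and all `Z_{2a}` is everything. -/
theorem eq_top_of_ZO (hF : ∃ c : Fˣ, c ≠ 1) {K : Subgroup G} (ho : ∀ a t, S.o a t ∈ K)
    (hz : ∀ a u, S.e a 0 u ∈ K) : K = ⊤ := by
  have he : ∀ (a : ZMod 8) (p u : F), S.e a p u ∈ K := by
    intro a p u
    -- the words
    have key : ∀ t v : F, ∃ x y z : F, S.e a (σ t * v) x * S.o a y * S.e (a + 1) (t * v) z ∈ K := by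
      intro t v
      have h := S.o_e4 (a - 2) t 0 v
      rw [show a - 2 + 4 = a + 2 by ring, show a - 2 + 1 = a - 1 by ring, show a - 2 + 2 = a by ring,
        show a - 2 + 3 = a + 1 by ring] at h
      simp only [mul_zero, zero_mul, add_zero, zero_add, map_zero] at h
      have h1 : S.o (a - 2) t * S.e (a + 2) 0 v ∈ K := mul_mem (ho _ _) (hz _ _)
      rw [h] at h1
      have a1 : S.e (a + 2) 0 v * S.o (a - 2) t * S.e (a - 1) 0 (t * σ t * v) * S.o (a - 1) (t * σ t * σ v) ∈ K :=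
        mul_mem (mul_mem (mul_mem (hz _ _) (ho _ _)) (hz _ _)) (ho _ _)
      have h2 := (Subgroup.mul_mem_cancel_right K (ho _ _)).1 h1
      rw [mul_assoc, mul_assoc, Subgroup.mul_mem_cancel_left K a1, ← mul_assoc] at h2
      exact ⟨_, _, _, h2⟩
    -- the first coordinate
    have key2 : ∀ v : F, ∃ x, S.e a v x ∈ K := by
      intro v
      obtain ⟨c, hc⟩ := hF
      have hne : (1 : F) + σ c * (c : F)⁻¹ ≠ 0 := by
        intro h0
        apply hc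
        apply s2 S
        apply Units.ext
        have h1 : (c : F) + σ c = 0 := by
          have := congrArg (· * (c : F)) h0
          simp only [add_mul, one_mul, zero_mul, mul_assoc, inv_mul_cancel₀ c.ne_zero, mul_one] at this
          exact this
        have h2 : (σ c : F) = c := by
          have h3 := char2 S (c : F)
          have h4 : (c : F) + σ c = c + c := h1.trans h3.symm
          exact add_left_cancel h4
        exact h2
      set v' : F := v * (1 + σ c * (c : F)⁻¹)⁻¹ with hv'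
      obtain ⟨x, y, z, h1⟩ := key 1 v'
      obtain ⟨x', y', z', h2⟩ := key c (v' * (c : F)⁻¹)
      have e1 : (c : F) * (v' * (c : F)⁻¹) = v' := by field_simp
      rw [map_one, one_mul] at h1
      rw [e1] at h2
      have h3 := mul_mem h1 (inv_mem h2)
      set v'' : F := σ c * (v' * (c : F)⁻¹) with hv''
      obtain ⟨z'', hz''⟩ : ∃ z'', S.e (a + 1) v' z * (S.e (a + 1) v' z')⁻¹ = S.e (a + 1) 0 z'' := by
        rw [e_inv, S.e_mul, char2 S]
        exact ⟨_, rfl⟩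
      have hm : S.o a y * S.e (a + 1) 0 z'' * (S.o a y')⁻¹ ∈ K :=
        mul_mem (mul_mem (ho _ _) (hz _ _)) (inv_mem (ho _ _))
      have c1 : ∀ s, S.e a v'' x' * S.o a s = S.o a s * S.e a v'' x' := fun s => S.e_o0 a v'' x' s
      have c2 : S.e a v'' x' * S.e (a + 1) 0 z'' = S.e (a + 1) 0 z'' * S.e a v'' x' := by
        have := S.e_e1 a v'' x' 0 z''
        rwa [mul_zero, S.o_zero, mul_one] at this
      have c3 : S.e a v'' x' * (S.o a y * S.e (a + 1) 0 z'' * (S.o a y')⁻¹) =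
          (S.o a y * S.e (a + 1) 0 z'' * (S.o a y')⁻¹) * S.e a v'' x' := by
        rw [o_inv]
        calc S.e a v'' x' * (S.o a y * S.e (a + 1) 0 z'' * S.o a y')
            = (S.e a v'' x' * S.o a y) * S.e (a + 1) 0 z'' * S.o a y' := by group
          _ = S.o a y * (S.e a v'' x' * S.e (a + 1) 0 z'') * S.o a y' := by rw [c1]; group
          _ = S.o a y * S.e (a + 1) 0 z'' * (S.e a v'' x' * S.o a y') := by rw [c2]; group
          _ = _ := by rw [c1]; group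
      have e2 : S.e a v' x * S.o a y * S.e (a + 1) v' z * (S.e a v'' x' * S.o a y' * S.e (a + 1) v' z')⁻¹ =
          S.e a v' x * (S.e a v'' x')⁻¹ * (S.o a y * S.e (a + 1) 0 z'' * (S.o a y')⁻¹) := by
        calc S.e a v' x * S.o a y * S.e (a + 1) v' z * (S.e a v'' x' * S.o a y' * S.e (a + 1) v' z')⁻¹
            = S.e a v' x * (S.o a y * (S.e (a + 1) v' z * (S.e (a + 1) v' z')⁻¹) * (S.o a y')⁻¹) *
              (S.e a v'' x')⁻¹ := by group
          _ = S.e a v' x * ((S.e a v'' x')⁻¹ * (S.e a v'' x' * (S.o a y * S.e (a + 1) 0 z'' * (S.o a y')⁻¹))) *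
              (S.e a v'' x')⁻¹ := by rw [hz'']; group
          _ = _ := by rw [c3]; group
      rw [e2, Subgroup.mul_mem_cancel_right K hm, e_inv, S.e_mul] at h3
      have e3 : v' + v'' = v := by
        have h4 : v' + v'' = v' * (1 + σ c * (c : F)⁻¹) := by rw [hv'']; ring
        rw [h4, hv', mul_assoc, inv_mul_cancel₀ hne, mul_one]
      rw [e3] at h3
      exact ⟨_, h3⟩
    obtain ⟨x, hx⟩ := key2 p
    have h := mul_mem hx (hz a (u + x))
    rw [S.e_mul, map_zero, mul_zero, add_zero, add_zero] at h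
    have e4 : x + (u + x) = u := by
      have : x + (u + x) = u + (x + x) := by ring
      rw [this, char2 S, add_zero]
    rwa [e4] at h
  refine eq_top_of S ?_ ?_ ?_ ?_
  · intro x hx
    obtain ⟨p, u, rfl⟩ := (mem_X0 S).1 hx
    exact he _ _ _
  · intro x hx
    obtain ⟨t, rfl⟩ := (mem_X1 S).1 hx
    exact ho _ _
  · intro x hx
    obtain ⟨p, u, rfl⟩ := (mem_X8 S).1 hx
    exact he _ _ _
  · intro x hx
    obtain ⟨t, rfl⟩ := (mem_X9 S).1 hx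
    exact ho _ _

/-! ### the data -/

theorem cj_eq_of {g : G} {H : Subgroup G} (h : ∀ x ∈ H, g * x * g⁻¹ ∈ H) (h' : ∀ x ∈ H, g⁻¹ * x * g ∈ H) :
    KLat.cj g H = H := by
  ext x
  rw [KLat.mem_cj]
  refine ⟨fun hx => ?_, fun hx => h' x hx⟩
  have := h _ hx
  have e : g * (g⁻¹ * x * g) * g⁻¹ = x := by group
  rwa [e] at this

theorem cj_T_Zc {t : G} (ht : t ∈ S.T) (a : ZMod 8) : KLat.cj t (S.Zc a) = S.Zc a := by
  refine cj_eq_of (fun x hx => S.T_conj_Zc ht hx) fun x hx => ?_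
  have := S.T_conj_Zc (inv_mem ht) hx
  rwa [inv_inv] at this

theorem cj_e_Zc (a : ZMod 8) (p u : F) : KLat.cj (S.e a p u) (S.Zc a) = S.Zc a := by
  have hc : ∀ v, S.e a p u * S.e a 0 v = S.e a 0 v * S.e a p u := by
    intro v
    rw [S.e_mul, S.e_mul, map_zero, mul_zero, zero_mul, add_zero, add_zero, add_zero, zero_add, add_comm]
  refine cj_eq_of ?_ ?_
  · rintro _ ⟨v, rfl⟩
    rw [hc, mul_inv_cancel_right]; exact ⟨v, rfl⟩
  · rintro _ ⟨v, rfl⟩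
    rw [mul_assoc, ← hc, inv_mul_cancel_left]; exact ⟨v, rfl⟩

theorem cj_inv_eq {g : G} {H : Subgroup G} (h : KLat.cj g H = H) : KLat.cj g⁻¹ H = H := by
  conv_lhs => rw [← h]
  rw [KLat.cj_cj_inv]

/-- the opposite point -/
abbrev sw : G := S.rot ^ (4 : ℤ)

theorem sw_Zc2 : KLat.cj (sw S) (S.Zc 2) = S.Zc 6 := by
  have h := S.map_Zc 4 2
  have e : (2 : ZMod 8) + ((4 : ℤ) : ZMod 8) = 6 := by decide
  rw [e] at h
  exact h

theorem sw_Zc6 : KLat.cj (sw S) (S.Zc 6) = S.Zc 2 := by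
  have h := S.map_Zc 4 6
  have e : (6 : ZMod 8) + ((4 : ℤ) : ZMod 8) = 2 := by decide
  rw [e] at h
  exact h

theorem sw_sw : KLat.cj (sw S) (KLat.cj (sw S) (S.Zc 2)) = S.Zc 2 := by rw [sw_Zc2, sw_Zc6]

theorem eight : ∀ a : ZMod 8, a = 0 ∨ a = 1 ∨ a = 2 ∨ a = 3 ∨ a = 4 ∨ a = 5 ∨ a = 6 ∨ a = 7 := by decide

/-- **two opposite `Q2` generate** -/
theorem gen (hF : ∃ c : Fˣ, c ≠ 1) : S.Q2 ⊔ KLat.cj (sw S) S.Q2 = ⊤ := by
  set K := S.Q2 ⊔ KLat.cj (sw S) S.Q2 with hK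
  have hQ : S.Q2 ≤ K := le_sup_left
  have hQ' : ∀ x ∈ S.Q2, sw S * x * (sw S)⁻¹ ∈ K := fun x hx => Subgroup.mem_sup_right (KLat.conj_mem_cj hx)
  have o1 : ∀ t, S.o 1 t ∈ K := fun t => hQ (S.q2_2 t)
  have o2 : ∀ t, S.o 2 t ∈ K := fun t => hQ (S.q2_4 t)
  have z1 : ∀ t, S.e 1 0 t ∈ K := fun t => hQ (S.q2_1 t)
  have z2 : ∀ t, S.e 2 0 t ∈ K := fun t => hQ (S.q2_3 t)
  have o5 : ∀ t, S.o 5 t ∈ K := fun t => by
    have h := hQ' _ (S.q2_2 t)
    rw [S.rotk_o, show (1 : ZMod 8) + ((4 : ℤ) : ZMod 8) = 5 by decide] at h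
    exact h
  have o6 : ∀ t, S.o 6 t ∈ K := fun t => by
    have h := hQ' _ (S.q2_4 t)
    rw [S.rotk_o, show (2 : ZMod 8) + ((4 : ℤ) : ZMod 8) = 6 by decide] at h
    exact h
  have k3 : r3 S ∈ K := by rw [r3_word]; exact mul_mem (mul_mem (o5 _) (o1 _)) (o5 _)
  have k5 : r5 S ∈ K := by rw [r5_word]; exact mul_mem (mul_mem (o6 _) (o2 _)) (o6 _)
  have up_o : ∀ a, (∀ t, S.o a t ∈ K) → ∀ t, S.o (a + 2) t ∈ K := by
    intro a ha t
    have h1 := mul_mem (mul_mem k3 (ha t)) (inv_mem k3)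
    rw [r3_o] at h1
    have h2 := mul_mem (mul_mem k5 h1) (inv_mem k5)
    rw [r5_o] at h2
    have e : -(6 - a) = a + 2 := by
      have : -(6 - a) = a + 2 - 8 := by ring
      rw [this, show (8 : ZMod 8) = 0 by decide, sub_zero]
    rwa [e] at h2
  have up_e : ∀ a, (∀ t, S.e a 0 t ∈ K) → ∀ t, S.e (a + 2) 0 t ∈ K := by
    intro a ha t
    have h1 := mul_mem (mul_mem k3 (ha t)) (inv_mem k3)
    rw [r3_e] at h1
    have h2 := mul_mem (mul_mem k5 h1) (inv_mem k5)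
    rw [r5_e] at h2
    have e : 1 - (7 - a) = a + 2 := by
      have : 1 - (7 - a) = a + 2 - 8 := by ring
      rw [this, show (8 : ZMod 8) = 0 by decide, sub_zero]
    rwa [e] at h2
  have o3 := up_o 1 o1
  have o4 := up_o 2 o2
  have o5' := up_o _ o3
  have o6' := up_o _ o4
  have o7 := up_o _ o5'
  have o8 := up_o _ o6'
  have z3 := up_e 1 z1
  have z4 := up_e 2 z2
  have z5 := up_e _ z3
  have z6 := up_e _ z4
  have z7 := up_e _ z5
  have z8 := up_e _ z6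
  refine eq_top_of_ZO S hF ?_ ?_
  · intro a t
    rcases eight a with rfl | rfl | rfl | rfl | rfl | rfl | rfl | rfl
    · exact o8 t
    · exact o1 t
    · exact o2 t
    · exact o3 t
    · exact o4 t
    · exact o5 t
    · exact o6 t
    · exact o7 t
  · intro a t
    rcases eight a with rfl | rfl | rfl | rfl | rfl | rfl | rfl | rfl
    · exact z8 t
    · exact z1 t
    · exact z2 t
    · exact z3 t
    · exact z4 t
    · exact z5 t
    · exact z6 t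
    · exact z7 t

/-! ### rank one -/

/-- `rot⁻² n2 rot²` -/
def nn : G := S.rot ^ (-2 : ℤ) * S.n2 * (S.rot ^ (-2 : ℤ))⁻¹

theorem nn_e (a : ZMod 8) (p u : F) : nn S * S.e a p u * (nn S)⁻¹ = S.e (-a) p u := by
  have h1 : (S.rot ^ (-2 : ℤ))⁻¹ * S.e a p u * S.rot ^ (-2 : ℤ) = S.e (a + 2) p u := by
    have := S.rotk_e (-2) (a + 2) p u
    have e : a + 2 + ((-2 : ℤ) : ZMod 8) = a := by push_cast; ring
    rw [e] at this
    rw [← this]; group
  rw [nn, conj_conj, h1, S.n2_e, S.rotk_e]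
  congr 1
  have : (4 : ZMod 8) - (a + 2) + ((-2 : ℤ) : ZMod 8) = -a := by push_cast; ring
  rw [this]

theorem nn_Zc6 : KLat.cj (nn S) (S.Zc 6) = S.Zc 2 := by
  ext x
  rw [KLat.mem_cj]
  constructor
  · rintro ⟨u, hu⟩
    refine ⟨u, ?_⟩
    have h := nn_e S 6 0 u
    rw [hu, show (-6 : ZMod 8) = 2 by decide] at h
    rw [← h]; group
  · rintro ⟨u, rfl⟩
    refine ⟨u, ?_⟩
    have h := nn_e S 6 0 u
    rw [show (-6 : ZMod 8) = 2 by decide] at h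
    rw [← h]; group

theorem e2_word : S.e 2 0 1 = (S.e 6 1 0)⁻¹ * nn S * S.e 6 1 0 := by
  have h4 : S.e 4 0 1 = (S.e 0 1 0)⁻¹ * S.n2 * S.e 0 1 0 := by
    conv_rhs => rw [n2_word' S]
    group
  have h0 : S.rot ^ (-2 : ℤ) * S.e 0 1 0 * (S.rot ^ (-2 : ℤ))⁻¹ = S.e 6 1 0 := by
    rw [S.rotk_e, show (0 : ZMod 8) + ((-2 : ℤ) : ZMod 8) = 6 by decide]
  have h2 : S.rot ^ (-2 : ℤ) * S.e 4 0 1 * (S.rot ^ (-2 : ℤ))⁻¹ = S.e 2 0 1 := by
    rw [S.rotk_e, show (4 : ZMod 8) + ((-2 : ℤ) : ZMod 8) = 2 by decide]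
  rw [← h2, h4, nn, ← h0]
  group

theorem r1 [Finite F] {x : G} (hx : x ∈ S.Zc 2) (hx1 : x ≠ 1) :
    Opp.Opp (S.Zc 2) (sw S) (KLat.cj (sw S) (S.Zc 2)) (KLat.cj x (KLat.cj (sw S) (S.Zc 2))) := by
  obtain ⟨u, rfl⟩ := hx
  have hu : u ≠ 0 := by rintro rfl; exact hx1 (S.e_zero _)
  obtain ⟨t, ht, e⟩ := S.T_trans one_ne_zero hu
  refine ⟨t * (S.e 6 1 0)⁻¹ * sw S, ?_, ?_⟩
  · rw [KLat.cj_mul, KLat.cj_mul, sw_Zc2, cj_inv_eq (cj_e_Zc S 6 1 0), cj_T_Zc S ht]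
  · rw [mul_assoc _ (sw S), KLat.cj_mul _ (sw S * sw S), KLat.cj_mul (sw S), sw_sw, ← e, sw_Zc2, e2_word, KLat.cj_mul,
      cj_inv_eq (cj_T_Zc S ht 6)]
    rw [← mul_assoc, KLat.cj_mul _ (S.e 6 1 0), cj_e_Zc, ← mul_assoc, KLat.cj_mul _ (nn S), nn_Zc6]

/-- the forms of the elements of `⟨X_0, X_8⟩` -/
def Frm (g : G) : Prop :=
  (∃ a ∈ S.XZ 8, ∃ t ∈ S.T, g = a * t) ∨ ∃ a ∈ S.XZ 8, ∃ t ∈ S.T, ∃ a' ∈ S.XZ 8, g = a * (t * S.n2) * a'

variable {S}

theorem n2T {t : G} (ht : t ∈ S.T) : S.n2 * t * S.n2⁻¹ ∈ S.T := by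
  obtain ⟨c, d, rfl⟩ := S.mem_T.1 ht
  exact S.mem_T.2 ⟨_, _, (S.n2_h c d).symm⟩

theorem n2_inv' : S.n2⁻¹ = S.n2 := inv_eq_of_mul_eq_one_left S.n2_sq

theorem Frm.mulX {g a : G} (ha : a ∈ S.XZ 8) (h : Frm S g) : Frm S (a * g) := by
  rcases h with ⟨b, hb, t, ht, rfl⟩ | ⟨b, hb, t, ht, b', hb', rfl⟩
  · exact Or.inl ⟨a * b, mul_mem ha hb, t, ht, by group⟩
  · exact Or.inr ⟨a * b, mul_mem ha hb, t, ht, b', hb', by group⟩

theorem Frm.mulN {g : G} (h : Frm S g) : Frm S (S.n2 * g) := by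
  rcases h with ⟨a, ha, t, ht, rfl⟩ | ⟨a, ha, t, ht, a', ha', rfl⟩
  · refine Or.inr ⟨1, one_mem _, S.n2 * t * S.n2⁻¹, n2T ht, t⁻¹ * a * t, S.T_conj' ht 8 ha, by group⟩
  · by_cases h1 : a = 1
    · subst h1
      have h2 := n2T ht
      refine Or.inl ⟨(S.n2 * t * S.n2⁻¹) * a' * (S.n2 * t * S.n2⁻¹)⁻¹, S.T_conj h2 8 ha', _, h2, ?_⟩
      calc S.n2 * (1 * (t * S.n2) * a') = (S.n2 * t * S.n2⁻¹) * (S.n2 * S.n2) * a' := by group
        _ = _ := by rw [S.n2_sq]; group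
    · set c := S.n2 * a * S.n2⁻¹ with hc
      have hc0 : c ∈ S.XZ 0 := by
        have := S.n2_refl.mem ha
        rwa [sub_self] at this
      have hc1 : c ≠ 1 := by
        intro h2
        apply h1
        have e : a = S.n2⁻¹ * c * S.n2 := by rw [hc]; group
        rw [e, h2]; group
      obtain ⟨v, hv, v', hv', hr⟩ := S.zsys8.mu 0 c hc0 hc1
      have e8 : S.XZ (0 - 8) = S.XZ 8 := by
        have := S.zsys8.per (0 - 8)
        rw [show (0 : ℤ) - 8 + 2 * 8 = 8 by norm_num] at this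
        exact this.symm
      rw [e8] at hv hv'
      -- `v c v' n2⁻¹ ∈ T`
      set m := v * c * v' with hm
      have hmT : m * S.n2⁻¹ ∈ S.T := by
        have key : ∀ k : ℤ, ∀ x, x ∈ S.XZ k ↔ (m * S.n2⁻¹) * x * (m * S.n2⁻¹)⁻¹ ∈ S.XZ k := by
          intro k x
          have h3 : x ∈ S.XZ k ↔ S.n2⁻¹ * x * S.n2⁻¹⁻¹ ∈ S.XZ (8 - k) := by
            rw [n2_inv']; exact S.n2_refl k x
          have h4 := hr (8 - k) (S.n2⁻¹ * x * S.n2⁻¹⁻¹)
          rw [h3, h4]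
          have e : (m * S.n2⁻¹) * x * (m * S.n2⁻¹)⁻¹ = m * (S.n2⁻¹ * x * S.n2⁻¹⁻¹) * m⁻¹ := by group
          rw [e]
          have e5 : S.XZ (2 * 0 - 8 - (8 - k)) = S.XZ k := by
            have := S.zsys8.per (2 * 0 - 8 - (8 - k))
            rw [show (2 : ℤ) * 0 - 8 - (8 - k) + 2 * 8 = k by ring] at this
            exact this.symm
          rw [e5]
        intro k x
        have hk : (((k.val : ℕ) : ℤ) : ZMod (2 * 8)) = k := by rw [Int.cast_natCast]; exact ZMod.natCast_zmod_val _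
        have h5 := key (k.val : ℤ) x
        have hX : S.XZ (k.val : ℤ) = S.R.X k := by show S.R.X _ = _; rw [hk]
        rw [hX] at h5
        exact h5.symm
      have hec : c = v⁻¹ * ((m * S.n2⁻¹) * S.n2) * v'⁻¹ := by rw [hm]; group
      have h2 := n2T ht
      -- `n2 a t n2 a' = c t' a'`
      set t' := S.n2 * t * S.n2⁻¹ with ht'
      refine Or.inr ⟨v⁻¹, inv_mem hv, (m * S.n2⁻¹) * (S.n2 * t' * S.n2⁻¹), mul_mem hmT (n2T h2),
        (t'⁻¹ * v'⁻¹ * t') * a', mul_mem (S.T_conj' h2 8 (inv_mem hv')) ha', ?_⟩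
      have e1 : S.n2 * (a * (t * S.n2) * a') = c * t' * (S.n2 * S.n2) * a' := by rw [hc, ht']; group
      rw [e1, S.n2_sq, mul_one, hec]
      group

theorem Frm.one : Frm S 1 := Or.inl ⟨1, one_mem _, 1, one_mem _, by group⟩

theorem frm_L4 {g : G} (hg : g ∈ L4 S) : Frm S g := by
  let K : Subgroup G :=
    { carrier := {k | (∀ g, Frm S g → Frm S (k * g)) ∧ ∀ g, Frm S g → Frm S (k⁻¹ * g)}
      one_mem' := ⟨fun g hg => by rwa [one_mul], fun g hg => by rwa [inv_one, one_mul]⟩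
      mul_mem' := fun {a b} ha hb => ⟨fun g hg => by rw [mul_assoc]; exact ha.1 _ (hb.1 _ hg),
        fun g hg => by rw [mul_inv_rev, mul_assoc]; exact hb.2 _ (ha.2 _ hg)⟩
      inv_mem' := fun {a} ha => ⟨ha.2, fun g hg => by rw [inv_inv]; exact ha.1 _ hg⟩ }
  have h8 : S.XZ 8 ≤ K := fun x hx => ⟨fun g hg => hg.mulX hx, fun g hg => hg.mulX (inv_mem hx)⟩
  have hn : S.n2 ∈ K := ⟨fun g hg => hg.mulN, fun g hg => by rw [n2_inv']; exact hg.mulN⟩
  have h0 : S.XZ 0 ≤ K := by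
    intro x hx
    have h1 := S.n2_refl.mem_inv hx (k := 8) (by norm_num)
    have e : x = S.n2 * (S.n2⁻¹ * x * S.n2) * S.n2⁻¹ := by group
    rw [e]
    exact mul_mem (mul_mem hn (h8 h1)) (inv_mem hn)
  have h1 : g ∈ K := sup_le h0 h8 hg
  have := h1.1 1 Frm.one
  rwa [mul_one] at this

theorem T_sq_mem {t : G} (ht : t ∈ S.T) [Finite F] [Finite G] (hR : S.R.p = 2) {k : ℤ} (h : t * t ∈ S.XZ k) : t = 1 := by
  obtain ⟨c, d, rfl⟩ := S.mem_T.1 ht
  rw [S.h_mul] at h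
  obtain ⟨h1, h2⟩ := torus_mem_two S (two_X S hR k) h
  rw [unit_sq S h1, unit_sq S h2, S.h_one]

theorem Zc4_X8 {x : G} (hx : x ∈ S.Zc 4) : x ∈ S.XZ 8 := by
  obtain ⟨u, rfl⟩ := hx
  exact (mem_X8 S).2 ⟨0, u, rfl⟩

theorem Zc0_X0 {x : G} (hx : x ∈ S.Zc 0) : x ∈ S.XZ 0 := by
  obtain ⟨u, rfl⟩ := hx
  exact (mem_X0 S).2 ⟨0, u, rfl⟩

theorem X8_comm {a x : G} (ha : a ∈ S.XZ 8) (hx : x ∈ S.Zc 4) : a * x = x * a := by
  obtain ⟨u, rfl⟩ := hx
  obtain ⟨p, v, rfl⟩ := (mem_X8 S).1 ha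
  rw [S.e_mul, S.e_mul, map_zero, mul_zero, zero_mul, add_zero, add_zero, add_zero, zero_add, add_comm]

/-- an involution of `⟨X_0, X_8⟩` commuting with `x ∈ Z_8` lies in `X_8` -/
theorem mem_X8_of_comm [Finite F] [Finite G] (hR : S.R.p = 2) {z x : G} (hz : z ∈ L4 S) (hz2 : z * z = 1)
    (hx : x ∈ S.Zc 4) (hx1 : x ≠ 1) (hc : z * x = x * z) : z ∈ S.XZ 8 := by
  rcases frm_L4 hz with ⟨a, ha, t, ht, rfl⟩ | ⟨a, ha, t, ht, a', ha', rfl⟩
  · have h1 : t * t ∈ S.XZ 8 := by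
      have e : t * t = (a * (t * a * t⁻¹))⁻¹ * (a * t * (a * t)) := by group
      rw [e, hz2, mul_one]
      exact inv_mem (mul_mem ha (S.T_conj ht 8 ha))
    rw [T_sq_mem ht hR h1, mul_one]; exact ha
  · exfalso
    -- `n2 x n2⁻¹ ∈ X_8`
    have h1 : S.n2 * x * S.n2⁻¹ ∈ S.XZ 8 := by
      have e1 : a' * x * a'⁻¹ = x := by rw [X8_comm ha' hx]; group
      have e2 : S.n2 * x * S.n2⁻¹ = t⁻¹ * (a⁻¹ * ((a * (t * S.n2) * a') * x * (a * (t * S.n2) * a')⁻¹) * a) * t := by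
        conv_lhs => rw [← e1]
        group
      have e3 : (a * (t * S.n2) * a') * x * (a * (t * S.n2) * a')⁻¹ = x := by rw [hc]; group
      have e4 : a⁻¹ * x * a = x := by rw [mul_assoc, ← X8_comm ha hx]; group
      rw [e2, e3, e4]
      exact S.T_conj' ht 8 (Zc4_X8 hx)
    have h2 : S.n2 * x * S.n2⁻¹ ∈ S.XZ 0 := by
      have := S.n2_refl.mem (Zc4_X8 hx)
      rwa [sub_self] at this
    have h3 := S.X_inf_opp (i := 0) h2 (by rw [zero_add]; exact h1)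
    apply hx1
    have : x = S.n2⁻¹ * (S.n2 * x * S.n2⁻¹) * S.n2 := by group
    rw [this, h3]; group

theorem n2_L4 {z : G} (hz : z ∈ L4 S) : S.n2 * z * S.n2⁻¹ ∈ L4 S :=
  mul_mem (mul_mem (n2_mem_L4 S) hz) (inv_mem (n2_mem_L4 S))

/-- `x y` has odd order -/
theorem odd_order [Finite F] [Finite G] (hR : S.R.p = 2) {x y : G} (hx : x ∈ S.Zc 4) (hy : y ∈ S.Zc 0) (hx1 : x ≠ 1)
    (hy1 : y ≠ 1) : Odd (orderOf (x * y)) := by
  by_contra hodd
  rw [Nat.not_odd_iff_even] at hodd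
  obtain ⟨k, hk⟩ := hodd
  have hpos : 0 < orderOf (x * y) := orderOf_pos _
  set c := x * y with hc
  set z := c ^ k with hz
  have hz2 : z * z = 1 := by rw [hz, ← pow_add, ← hk, pow_orderOf_eq_one]
  have hz1 : z ≠ 1 := by
    intro h
    have h1 := orderOf_dvd_of_pow_eq_one h
    have h2 := Nat.le_of_dvd (by omega) h1
    omega
  have hxx : x * x = 1 := by
    obtain ⟨u, rfl⟩ := hx
    exact z_sq S _ _
  have hyy : y * y = 1 := by
    obtain ⟨u, rfl⟩ := hy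
    exact z_sq S _ _
  have hxi : x⁻¹ = x := inv_eq_of_mul_eq_one_left hxx
  have hyi : y⁻¹ = y := inv_eq_of_mul_eq_one_left hyy
  have hzi : z⁻¹ = z := inv_eq_of_mul_eq_one_left hz2
  have hxL : x ∈ L4 S := X8_L4 S (Zc4_X8 hx)
  have hyL : y ∈ L4 S := X0_L4 S (Zc0_X0 hy)
  have hzL : z ∈ L4 S := pow_mem (mul_mem hxL hyL) k
  have hzx : z * x = x * z := by
    have h1 : x * z * x⁻¹ = z := by
      rw [hz, ← conj_pow]
      have e : x * c * x⁻¹ = c⁻¹ := by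
        rw [hc, mul_inv_rev, hyi, hxi]
        calc x * (x * y) * x = (x * x) * y * x := by group
          _ = y * x := by rw [hxx, one_mul]
      rw [e, inv_pow, ← hz, hzi]
    calc z * x = (x * z * x⁻¹) * x := by rw [h1]
      _ = x * z := by group
  have hzy : z * y = y * z := by
    have h1 : y * z * y⁻¹ = z := by
      rw [hz, ← conj_pow]
      have e : y * c * y⁻¹ = c⁻¹ := by
        rw [hc, mul_inv_rev, hyi, hxi]
        calc y * (x * y) * y = y * x * (y * y) := by group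
          _ = y * x := by rw [hyy, mul_one]
      rw [e, inv_pow, ← hz, hzi]
    calc z * y = (y * z * y⁻¹) * y := by rw [h1]
      _ = y * z := by group
  have h8 := mem_X8_of_comm hR hzL hz2 hx hx1 hzx
  -- the other side
  have hny : S.n2 * y * S.n2⁻¹ ∈ S.Zc 4 := by
    obtain ⟨u, rfl⟩ := hy
    rw [S.n2_e, sub_zero]; exact ⟨u, rfl⟩
  have h8' : S.n2 * z * S.n2⁻¹ ∈ S.XZ 8 := by
    refine mem_X8_of_comm hR (n2_L4 hzL) ?_ hny ?_ ?_
    · calc S.n2 * z * S.n2⁻¹ * (S.n2 * z * S.n2⁻¹) = S.n2 * (z * z) * S.n2⁻¹ := by group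
        _ = 1 := by rw [hz2]; group
    · intro h
      apply hy1
      have : y = S.n2⁻¹ * (S.n2 * y * S.n2⁻¹) * S.n2 := by group
      rw [this, h]; group
    · calc S.n2 * z * S.n2⁻¹ * (S.n2 * y * S.n2⁻¹) = S.n2 * (z * y) * S.n2⁻¹ := by group
        _ = _ := by rw [hzy]; group
  have h0 : z ∈ S.XZ 0 := by
    have h9 := S.n2_refl.mem h8'
    rw [sub_self] at h9
    have e : S.n2 * (S.n2 * z * S.n2⁻¹) * S.n2⁻¹ = (S.n2 * S.n2) * z * (S.n2 * S.n2)⁻¹ := by group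
    rw [e, S.n2_sq, one_mul, inv_one, mul_one] at h9
    exact h9
  exact hz1 (S.X_inf_opp (i := 0) h0 (by rw [zero_add]; exact h8))

/-- two non-trivial involutions of opposite root groups are conjugate in the group they generate -/
theorem tr [Finite F] [Finite G] (hR : S.R.p = 2) {H : Subgroup G} (h1 : H ⊓ S.Zc 2 ≠ ⊥)
    (h2 : H ⊓ KLat.cj (sw S) (S.Zc 2) ≠ ⊥) : ∃ h ∈ H, KLat.cj h (S.Zc 2) = KLat.cj (sw S) (S.Zc 2) := by
  obtain ⟨⟨x, hxH, hxA⟩, hx1⟩ := Subgroup.ne_bot_iff_exists_ne_one.1 h1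
  obtain ⟨⟨y, hyH, hyA⟩, hy1⟩ := Subgroup.ne_bot_iff_exists_ne_one.1 h2
  have hx1' : x ≠ 1 := fun h => hx1 (Subtype.ext h)
  have hy1' : y ≠ 1 := fun h => hy1 (Subtype.ext h)
  have hyA0 := hyA
  rw [sw_Zc2] at hyA
  obtain ⟨u, rfl⟩ := hxA
  obtain ⟨v, rfl⟩ := hyA
  -- the order of `x y`
  have hord : Odd (orderOf (S.e 2 0 u * S.e 6 0 v)) := by
    have k1 : S.rot ^ (2 : ℤ) * S.e 2 0 u * (S.rot ^ (2 : ℤ))⁻¹ = S.e 4 0 u := by
      rw [S.rotk_e, show (2 : ZMod 8) + ((2 : ℤ) : ZMod 8) = 4 by decide]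
    have k2 : S.rot ^ (2 : ℤ) * S.e 6 0 v * (S.rot ^ (2 : ℤ))⁻¹ = S.e 0 0 v := by
      rw [S.rotk_e, show (6 : ZMod 8) + ((2 : ℤ) : ZMod 8) = 0 by decide]
    have hu : u ≠ 0 := by rintro rfl; exact hx1' (S.e_zero _)
    have hv : v ≠ 0 := by rintro rfl; exact hy1' (S.e_zero _)
    have h3 := odd_order (S := S) hR (x := S.e 4 0 u) (y := S.e 0 0 v) ⟨u, rfl⟩ ⟨v, rfl⟩
      (fun h => hu (S.e_eq_one h).2) (fun h => hv (S.e_eq_one h).2)
    rw [← k1, ← k2] at h3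
    have e : S.rot ^ (2 : ℤ) * S.e 2 0 u * (S.rot ^ (2 : ℤ))⁻¹ * (S.rot ^ (2 : ℤ) * S.e 6 0 v * (S.rot ^ (2 : ℤ))⁻¹) =
        MulAut.conj (S.rot ^ (2 : ℤ)) (S.e 2 0 u * S.e 6 0 v) := by
      rw [MulAut.conj_apply]; group
    rw [e] at h3
    rwa [MulEquiv.orderOf_eq] at h3
  set x := S.e 2 0 u with hx
  set y := S.e 6 0 v with hy
  have hxx : x * x = 1 := z_sq S _ _
  have hyy : y * y = 1 := z_sq S _ _
  have hxi : x⁻¹ = x := inv_eq_of_mul_eq_one_left hxx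
  have hyi : y⁻¹ = y := inv_eq_of_mul_eq_one_left hyy
  obtain ⟨m, hm⟩ := hord
  set c := x * y with hc
  have hcm : c ^ (2 * m + 1) = 1 := by rw [← hm]; exact pow_orderOf_eq_one c
  have hxc : x * c * x⁻¹ = c⁻¹ := by
    rw [hc, mul_inv_rev, hyi, hxi]
    calc x * (x * y) * x = (x * x) * y * x := by group
      _ = y * x := by rw [hxx, one_mul]
  refine ⟨c ^ m, pow_mem (mul_mem hxH hyH) m, ?_⟩
  -- `c^m x c^-m = y`
  have hcx : x * c ^ m * x⁻¹ = (c ^ m)⁻¹ := by rw [← conj_pow, hxc, inv_pow]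
  have hconj : c ^ m * x * (c ^ m)⁻¹ = y := by
    have e1 : c ^ m * x * (c ^ m)⁻¹ = c ^ m * (x * (x * c ^ m * x⁻¹) * x⁻¹) * x := by
      rw [← hcx]
      calc c ^ m * x * (x * c ^ m * x⁻¹) = c ^ m * (x * x) * c ^ m * x⁻¹ := by group
        _ = c ^ m * c ^ m * x := by rw [hxx, hxi]; group
        _ = c ^ m * ((x * x) * c ^ m * (x⁻¹ * x⁻¹)) * x := by rw [hxx, hxi, hxx]; group
        _ = _ := by group
    have e2 : x * (x * c ^ m * x⁻¹) * x⁻¹ = c ^ m := by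
      calc x * (x * c ^ m * x⁻¹) * x⁻¹ = (x * x) * c ^ m * (x⁻¹ * x⁻¹) := by group
        _ = c ^ m := by rw [hxi, hxx]; group
    rw [e1, e2]
    have e3 : c ^ m * c ^ m = c⁻¹ := by
      rw [eq_inv_iff_mul_eq_one, ← pow_add, ← pow_succ, ← two_mul]
      exact hcm
    rw [e3, hc, mul_inv_rev, hyi, hxi]
    rw [mul_assoc, hxx, mul_one]
  -- `g = s⁻¹ h`
  set g := (sw S)⁻¹ * c ^ m with hg
  have hxZ : x ∈ S.Zc 2 := ⟨u, rfl⟩
  have hgx : g * x * g⁻¹ ∈ S.Zc 2 := by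
    have h3 : (sw S)⁻¹ * y * sw S ∈ S.Zc 2 := KLat.mem_cj.1 hyA0
    have e : g * x * g⁻¹ = (sw S)⁻¹ * (c ^ m * x * (c ^ m)⁻¹) * sw S := by rw [hg]; group
    rw [e, hconj]; exact h3
  have hxne : x ≠ 1 := hx1'
  have hgx1 : g * x * g⁻¹ ≠ 1 := by
    intro h
    apply hxne
    have : x = g⁻¹ * (g * x * g⁻¹) * g := by group
    rw [this, h]; group
  have hcj : KLat.cj g (S.Zc 2) = S.Zc 2 := by
    refine cj_eq_of (fun w hw => S.conj_Zc_of_inter hxZ hxne hgx hw) fun w hw => ?_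
    have h4 := S.conj_Zc_of_inter (g := g⁻¹) hgx hgx1 (by
      have e : g⁻¹ * (g * x * g⁻¹) * g⁻¹⁻¹ = x := by group
      rw [e]; exact hxZ) hw
    rwa [inv_inv] at h4
  have h5 := congrArg (KLat.cj (sw S)) hcj
  rw [← KLat.cj_mul] at h5
  rw [← h5, hg, mul_inv_cancel_left]

variable (S)

theorem T_conj_Q2 {t x : G} (ht : t ∈ S.T) (hx : x ∈ S.Q2) : t * x * t⁻¹ ∈ S.Q2 := by
  have h : S.Q2 ≤ S.Q2.comap (MulAut.conj t).toMonoidHom := by
    obtain ⟨c, d, rfl⟩ := S.mem_T.1 ht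
    refine S.Q2_le ?_ ?_ ?_ ?_ ?_
    · intro u
      show S.h c d * S.e 1 0 u * (S.h c d)⁻¹ ∈ S.Q2
      rw [S.h_e, mul_zero]; exact S.q2_1 _
    · intro u
      show S.h c d * S.o 1 u * (S.h c d)⁻¹ ∈ S.Q2
      rw [S.h_o]; exact S.q2_2 _
    · intro u
      show S.h c d * S.e 2 0 u * (S.h c d)⁻¹ ∈ S.Q2
      rw [S.h_e, mul_zero]; exact S.q2_3 _
    · intro u
      show S.h c d * S.o 2 u * (S.h c d)⁻¹ ∈ S.Q2
      rw [S.h_o]; exact S.q2_4 _
    · intro u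
      show S.h c d * S.e 3 0 u * (S.h c d)⁻¹ ∈ S.Q2
      rw [S.h_e, mul_zero]; exact S.q2_5 _
  exact h hx

theorem e201_ne : S.e 2 0 1 ≠ 1 := fun h => one_ne_zero (S.e_eq_one h).2

theorem norm_Q2 {g : G} (h : KLat.cj g (S.Zc 2) = S.Zc 2) : KLat.cj g S.Q2 = S.Q2 := by
  have hz : S.e 2 0 1 ∈ S.Zc 2 := ⟨1, rfl⟩
  have h1 : g * S.e 2 0 1 * g⁻¹ ∈ S.Zc 2 := by
    have := KLat.conj_mem_cj (g := g) hz
    rwa [h] at this
  obtain ⟨y, hy, t, ht, rfl⟩ := S.mem_of_conj hz (e201_ne S) h1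
  rw [KLat.cj_mul]
  have e1 : KLat.cj t S.Q2 = S.Q2 := by
    refine cj_eq_of (fun x hx => T_conj_Q2 S ht hx) fun x hx => ?_
    have := T_conj_Q2 S (inv_mem ht) hx
    rwa [inv_inv] at this
  rw [e1]
  refine cj_eq_of (fun x hx => Q2_norm' S hy hx) fun x hx => ?_
  have := Q2_norm' S (inv_mem hy) hx
  rwa [inv_inv] at this

theorem Zc2_le_Q2 : S.Zc 2 ≤ S.Q2 := by
  rintro _ ⟨u, rfl⟩
  exact S.q2_3 u

theorem Q2_sq {x : G} (hx : x ∈ S.Q2) : x * x = 1 := by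
  obtain ⟨u, s, z, t, w, rfl⟩ := (mem_Q2 S).1 hx
  rw [q2_mul, char2 S, char2 S, char2 S, char2 S, char2 S, q2_zero]

theorem oppData [Finite F] [Finite G] (hF : ∃ c : Fˣ, c ≠ 1) (hR : S.R.p = 2) : Opp.OppData (S.Zc 2) S.Q2 (sw S) := by
  have hfact : Fact (Nat.Prime 2) := ⟨Nat.prime_two⟩
  have el : Opp.Elem S.Q2 := Opp.elem_of (p := 2) (fun x hx y hy => Q2_comm S hx hy)
    (fun x hx => by rw [pow_two]; exact Q2_sq S hx)
  exact
    { ne := fun h => e201_ne S (by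
        have : S.e 2 0 1 ∈ S.Zc 2 := ⟨1, rfl⟩
        rwa [h, Subgroup.mem_bot] at this)
      le_norm := fun q hq => by
        have hqP : q ∈ S.PL := Q_PL S (Q2_le_Q S hq)
        refine cj_eq_of (fun x hx => ?_) fun x hx => ?_
        · rw [S.comm_PL hqP hx, mul_inv_cancel_right]; exact hx
        · rw [mul_assoc, ← S.comm_PL hqP hx, inv_mul_cancel_left]; exact hx
      int := el.mod
      elem := Opp.elem_of (p := 2) (fun x hx y hy => Q2_comm S (Zc2_le_Q2 S hx) (Zc2_le_Q2 S hy))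
        (fun x hx => by rw [pow_two]; exact Q2_sq S (Zc2_le_Q2 S hx))
      norm := fun g h => norm_Q2 S h
      gen := gen S hF
      r1 := fun x hx hx1 => r1 S hx hx1
      tr := fun H h1 h2 => tr hR h1 h2 }

/-! ### involutions -/

/-- every involution moves some member to an opposite one -/
theorem opp_inv [Finite F] [Finite G] (hF : ∃ c : Fˣ, c ≠ 1) (hR : S.R.p = 2) {x : G} (hx : x * x = 1) (hx1 : x ≠ 1) :
    ∃ g, Opp.Opp (S.Zc 2) (sw S) (KLat.cj g (S.Zc 2)) (KLat.cj x (KLat.cj g (S.Zc 2))) := by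
  -- it is enough to find a conjugate of `x` that does it
  have red : ∀ y k : G, k * x * k⁻¹ = y →
      Opp.Opp (S.Zc 2) (sw S) (KLat.cj (sw S) (S.Zc 2)) (KLat.cj y (KLat.cj (sw S) (S.Zc 2))) →
      ∃ g, Opp.Opp (S.Zc 2) (sw S) (KLat.cj g (S.Zc 2)) (KLat.cj x (KLat.cj g (S.Zc 2))) := by
    intro y k hk ho
    refine ⟨k⁻¹ * sw S, ?_⟩
    have h1 := ho.conj k⁻¹
    rw [← KLat.cj_mul k⁻¹ (sw S), ← KLat.cj_mul k⁻¹ y, ← hk] at h1
    have e : k⁻¹ * (k * x * k⁻¹) = x * k⁻¹ := by group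
    rw [e, KLat.cj_mul x, ← KLat.cj_mul k⁻¹ (sw S)] at h1
    exact h1
  rcases classes S hF hR hx hx1 with ⟨u, hu, hc⟩ | ⟨t, ht, hc⟩
  · -- a long root element
    obtain ⟨k, hk⟩ : Cj x (S.e 2 0 u) := by
      refine hc.trans ⟨S.rot ^ (2 : ℤ), ?_⟩
      rw [S.rotk_e, show (0 : ZMod 8) + ((2 : ℤ) : ZMod 8) = 2 by decide]
    exact red _ k hk (r1 S ⟨u, rfl⟩ fun h => hu (S.e_eq_one h).2)
  · -- `o 3`
    have hc3 : Cj x (S.o 3 t) := by
      refine hc.trans ⟨S.rot ^ (3 : ℤ), ?_⟩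
      rw [S.rotk_o, show (0 : ZMod 8) + ((3 : ℤ) : ZMod 8) = 3 by decide]
    have h2 := zz_conj S (p := 1) (v := t) one_ne_zero ht
    rw [one_mul, map_one, one_mul, one_mul, one_mul] at h2
    obtain ⟨k, hk⟩ := hc3.trans h2
    refine red _ k hk ?_
    have hcomm : S.e 4 0 t * S.e 2 0 t = S.e 2 0 t * S.e 4 0 t := (S.e_e2 2 0 t 0 t).symm
    have h6 : KLat.cj (S.e 4 0 t) (S.Zc 6) = S.Zc 6 := by
      have hcc : ∀ v, S.e 4 0 t * S.e 6 0 v = S.e 6 0 v * S.e 4 0 t := fun v => S.e_e2 4 0 t 0 v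
      refine cj_eq_of ?_ ?_
      · rintro _ ⟨v, rfl⟩
        rw [hcc, mul_inv_cancel_right]; exact ⟨v, rfl⟩
      · rintro _ ⟨v, rfl⟩
        rw [mul_assoc, ← hcc, inv_mul_cancel_left]; exact ⟨v, rfl⟩
    have h7 := r1 S (x := S.e 2 0 t) ⟨t, rfl⟩ (fun h => ht (S.e_eq_one h).2)
    rw [hcomm, KLat.cj_mul, sw_Zc2, h6]
    rw [sw_Zc2] at h7
    exact h7

/-! ### subgroups of odd order -/

theorem norm_ne_top [IsSimpleGroup G] {a b : ℤ} (hab : a ≤ b) (hb : b < a + 7) :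
    Subgroup.normalizer (J S.XZ a b : Set G) ≠ ⊤ := by
  intro h
  have hn : (J S.XZ a b).Normal := Subgroup.normalizer_eq_top_iff.1 h
  rcases hn.eq_bot_or_eq_top with h1 | h1
  · exact J_ne_bot S hab h1
  · -- `X_{a-1}`
    obtain ⟨x, hx, hx1⟩ := S.zsys8.exists_ne (a - 1)
    have h2 : x ∈ J S.XZ a b := by rw [h1]; trivial
    exact hx1 (S.zsys8.inter (a - 1) x hx (J_mono (by omega) (by omega) h2))

theorem X_le_norm [Finite G] {k a b : ℤ} (h : ∀ r ∈ S.XZ k, ∀ y ∈ J S.XZ a b, r * y * r⁻¹ ∈ J S.XZ a b) :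
    S.XZ k ≤ Subgroup.normalizer (J S.XZ a b : Set G) := fun r hr => mem_normalizer_J (cond_top S) fun y hy => h r hr y hy

theorem exists_out [Finite F] [Finite G] [IsSimpleGroup G] {H : Subgroup G}
    (hH : H ≠ ⊥) : ∃ g : G, ¬ KLat.cj g H ≤ Subgroup.normalizer (J S.XZ 2 8 : Set G) ∧
      ¬ KLat.cj g H ≤ Subgroup.normalizer (J S.XZ 1 7 : Set G) := by
  have Z8 := S.zsys8
  set N1 := Subgroup.normalizer (J S.XZ 2 8 : Set G) with hN1
  set N2 := Subgroup.normalizer (J S.XZ 1 7 : Set G) with hN2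
  have n1t : N1 ≠ ⊤ := norm_ne_top S (by norm_num) (by norm_num)
  have n2t : N2 ≠ ⊤ := norm_ne_top S (by norm_num) (by norm_num)
  have a18 : J S.XZ 1 8 ≤ N1 := by
    refine J_le fun k h1 h2 => ?_
    exact X_le_norm S fun r hr y hy => Z8.conj_X (by norm_num) (by omega) (by omega) hr hy
  have a18' : J S.XZ 1 8 ≤ N2 := by
    refine J_le fun k h1 h2 => ?_
    exact X_le_norm S fun r hr y hy => Z8.conj_X (by norm_num) (by omega) (by omega) hr hy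
  have a9 : S.XZ 9 ≤ N1 := X_le_norm S fun r hr y hy => Z8.conj_X (by norm_num) (by omega) (by omega) hr hy
  have a0 : S.XZ 0 ≤ N2 := X_le_norm S fun r hr y hy => Z8.conj_X (by norm_num) (by omega) (by omega) hr hy
  obtain ⟨g0, hg0⟩ := KLat.exists_cj_not_le n1t hH
  by_contra hcon
  push Not at hcon
  set H' := KLat.cj g0 H with hH'
  have hy : ∀ y ∈ N1, KLat.cj y H' ≤ N2 := by
    intro y hy
    rw [hH', ← KLat.cj_mul]
    refine hcon _ fun h => hg0 ?_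
    rw [KLat.cj_mul, ← hH', KLat.cj_le_iff, KLat.cj_eq_self_of_mem (inv_mem hy)] at h
    exact h
  let D : Subgroup G := ⨅ y : N1, KLat.cj (y : G) (J S.XZ 1 7)
  have hD : ∀ x, x ∈ D ↔ ∀ y ∈ N1, y⁻¹ * x * y ∈ J S.XZ 1 7 := by
    intro x
    rw [Subgroup.mem_iInf]
    constructor
    · intro h y hy
      exact KLat.mem_cj.1 (h ⟨y, hy⟩)
    · rintro h ⟨y, hy⟩
      exact KLat.mem_cj.2 (h y hy)
  have key : ∀ (L : Subgroup G), (∀ l ∈ L, ∀ x ∈ D, l * x * l⁻¹ ∈ D) → L ≤ Subgroup.normalizer (D : Set G) := by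
    intro L hL l hl
    rw [Subgroup.mem_normalizer_iff]
    intro x
    refine ⟨hL l hl x, fun h => ?_⟩
    have := hL l⁻¹ (inv_mem hl) _ h
    have e : l⁻¹ * (l * x * l⁻¹) * l⁻¹⁻¹ = x := by group
    rwa [e] at this
  have hHD : H' ≤ Subgroup.normalizer (D : Set G) := by
    refine key _ fun l hl x hx => ?_
    rw [hD] at hx ⊢
    intro y hyN
    have h1 : y⁻¹ * l * y ∈ N2 := by
      have h2 : y⁻¹ * l * y⁻¹⁻¹ ∈ KLat.cj y⁻¹ H' := KLat.conj_mem_cj hl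
      rw [inv_inv] at h2
      exact hy _ (inv_mem hyN) h2
    have h3 := (Subgroup.mem_normalizer_iff.1 h1 (y⁻¹ * x * y)).1 (hx y hyN)
    have e : y⁻¹ * l * y * (y⁻¹ * x * y) * (y⁻¹ * l * y)⁻¹ = y⁻¹ * (l * x * l⁻¹) * y := by group
    rwa [e] at h3
  have hND : N1 ≤ Subgroup.normalizer (D : Set G) := by
    refine key _ fun l hl x hx => ?_
    rw [hD] at hx ⊢
    intro y hyN
    have h1 := hx (l⁻¹ * y) (mul_mem (inv_mem hl) hyN)
    have e : (l⁻¹ * y)⁻¹ * x * (l⁻¹ * y) = y⁻¹ * (l * x * l⁻¹) * y := by group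
    rwa [e] at h1
  have hWD : S.e 2 0 1 ∈ D := by
    rw [hD]
    intro y hyN
    have h1 : y⁻¹ * S.e 2 0 1 * y ∈ S.W46 := by
      rw [← centralizer_J28 S, Subgroup.mem_centralizer_iff]
      intro j hj
      have h2 : y * j * y⁻¹ ∈ J S.XZ 2 8 := (Subgroup.mem_normalizer_iff.1 hyN j).1 hj
      have h3 := S.W46_comm h2 (S.Z4_W46 1)
      calc j * (y⁻¹ * S.e 2 0 1 * y) = y⁻¹ * ((y * j * y⁻¹) * S.e 2 0 1) * y := by group
        _ = y⁻¹ * (S.e 2 0 1 * (y * j * y⁻¹)) * y := by rw [h3]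
        _ = _ := by group
    exact J_mono (by norm_num) (by norm_num) (S.W46_le h1)
  have hDJ : D ≤ J S.XZ 1 7 := by
    intro x hx
    have := (hD x).1 hx 1 (one_mem _)
    rwa [inv_one, one_mul, mul_one] at this
  have hM : J S.XZ 1 8 ⊓ ⊤ ≤ Subgroup.normalizer (D : Set G) := by rw [inf_top_eq]; exact a18.trans hND
  rcases overgroup (cond_top S) hM with h | h | h
  · have hn : D.Normal := Subgroup.normalizer_eq_top_iff.1 (top_le_iff.1 h)
    rcases hn.eq_bot_or_eq_top with h1 | h1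
    · rw [h1, Subgroup.mem_bot] at hWD
      exact e201_ne S hWD
    · apply n2t
      rw [h1, top_le_iff] at hDJ
      rw [hN2, hDJ, Subgroup.normalizer_eq_top_iff]
      infer_instance
  · exact hg0 (hHD.trans h)
  · apply n2t
    refine eq_top_of S a0 ?_ ?_ ((a9.trans hND).trans h)
    · exact (X_le_J (by norm_num) (by norm_num)).trans a18'
    · exact (X_le_J (by norm_num) (by norm_num)).trans a18'

theorem hasC_of_odd [Finite F] [Finite G] [IsSimpleGroup G] (hR : S.R.p = 2) {H : Subgroup G}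
    (hodd : ¬ 2 ∣ Nat.card H) : KLat.HasC H := by
  by_cases hH : H = ⊥
  · rw [hH]; exact KLat.hasC_bot
  have hfact : Fact (Nat.Prime 2) := ⟨Nat.prime_two⟩
  obtain ⟨g, h1, h2⟩ := exists_out S hH
  refine KLat.hasC_of_cj (g := g) ⟨J S.XZ 1 8, ?_, ?_⟩
  · have hM : J S.XZ 1 8 ⊓ ⊤ ≤ KLat.cj g H ⊔ J S.XZ 1 8 := by rw [inf_top_eq]; exact le_sup_right
    rcases overgroup (cond_top S) hM with h | h | h
    · exact top_le_iff.1 h
    · exact (h1 (le_sup_left.trans h)).elim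
    · exact (h2 (le_sup_left.trans h)).elim
  · have hU2 : IsPGroup 2 (J S.XZ 1 8) := two_J S hR (by norm_num)
    obtain ⟨n, hn⟩ := hU2.exists_card_eq
    have hc : Nat.card (KLat.cj g H) = Nat.card H :=
      (Nat.card_congr (Subgroup.equivMapOfInjective H _ (MulAut.conj g).injective).toEquiv).symm
    apply Disjoint.eq_bot
    apply Subgroup.disjoint_of_coprime_natCard
    rw [hc, hn]
    exact Nat.Coprime.pow_right n ((Nat.Prime.coprime_iff_not_dvd Nat.prime_two).2 hodd).symm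

/-! ### the result -/

theorem cl_of_full [Finite F] [Finite G] [IsSimpleGroup G] (hF : ∃ c : Fˣ, c ≠ 1) (hR : S.R.p = 2) : KLat.CL G := by
  have hfact : Fact (Nat.Prime 2) := ⟨Nat.prime_two⟩
  rw [KLat.cl_iff]
  intro H
  by_cases h2 : 2 ∣ Nat.card H
  · obtain ⟨x, hx⟩ := exists_prime_orderOf_dvd_card' 2 h2
    have hx1 : (x : G) ≠ 1 := by
      intro h1
      have h3 : x = 1 := Subtype.ext h1
      rw [h3, orderOf_one] at hx
      omega
    have hxx : (x : G) * x = 1 := by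
      have h3 := pow_orderOf_eq_one x
      rw [hx, pow_two] at h3
      exact congrArg Subtype.val h3
    obtain ⟨g, hg⟩ := opp_inv S hF hR hxx hx1
    exact Opp.hasC (oppData S hF hR) (sw_sw S) x.2 hg
  · exact hasC_of_odd S hR h2

/-- **The subgroup lattice of `²F₄(q)`, `q ≥ 8`, is complemented.** -/
theorem cl_2F4 {X : Type*} [Group X] [Finite X] [IsSimpleGroup X] (h : Iso2F4 X) : KLat.CL X := by
  obtain ⟨F, _, _, m, hm, hK, ⟨e⟩⟩ := h
  obtain ⟨φ, hφ⟩ := Cfsg.Agent.ChevalleyStructure.TwF4.TwistedFix.exists_rln hK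
  have := Cfsg.Agent.ChevalleyStructure.TwF4.Twisted.charP_two hK
  have hfin : Finite ↥(twistedF4 F (2 ^ m)) := inferInstance
  have hF : ∃ c : Fˣ, c ≠ 1 := by
    have h1 : 1 < Nat.card Fˣ := by
      rw [Nat.card_units, Nat.card_eq_fintype_card, hK]
      have : 2 ^ 3 ≤ 2 ^ (2 * m + 1) := Nat.pow_le_pow_right (by norm_num) (by omega)
      omega
    have h2 : Nontrivial Fˣ := Finite.one_lt_card_iff_nontrivial.1 h1
    exact exists_ne 1
  obtain ⟨S, hS⟩ : ∃ S : Full φ ↥(twistedF4 F (2 ^ m)), S.R.p = 2 :=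
    ⟨Cfsg.Agent.KFacts.TwF4.Inst.full hK hφ, rfl⟩
  have hsimp : IsSimpleGroup ↥(twistedF4 F (2 ^ m)) := (MulEquiv.isSimpleGroup_congr e).1 inferInstance
  exact KLat.of_equiv e.symm (cl_of_full S hF hS)

end Cfsg.Agent.H99.CL2F4
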