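import Cfsg.Agent.H891.Gen.Defs
import Cfsg.Agent.H135.SLCyc
import Cfsg.Agent.H136.FieldLem
import Cfsg.Agent.H136.TwoGen

/-!
# TEAM GEN, piece F: explicit lifts for `SL_d(q)`

Let `j : GL_d(F) → Γ` be a homomorphism to a group and let `f : Γ` act on the image of `j` as a field automorphism `σ`.
For `A B : GL_d(F)` the pair `(j A, j B * f)` can be corrected by elements of `j (SL_d(F))` so as to generate at least
`j (SL_d(F))` (`lift_gl`): the first element becomes a diagonal element `h`, the second `u * w` with `u` a transvection and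
`w` a semilinear monomial cycle.
-/

set_option autoImplicit false

namespace Cfsg.Agent.H99.GenSL

open Matrix Cfsg.Agent.H891.Gen
open scoped Fin.NatCast Fin.CommRing

section General

variable {ι F : Type*} [Fintype ι] [DecidableEq ι] [Field F]

/-- the transvection as an element of `GL` -/
def tv {i j : ι} (hij : i ≠ j) (s : F) : GL ι F := SpecialLinearGroup.toGL (SpecialLinearGroup.transvection hij s)

theorem coe_tv {i j : ι} (h : i ≠ j) (s : F) : ((tv h s : GL ι F) : Matrix ι ι F) = 1 + single i j s := rfl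

theorem tv_mul {i j : ι} (hij : i ≠ j) (s t : F) : tv hij s * tv hij t = tv hij (s + t) := by
  apply Units.ext
  exact Matrix.transvection_mul_transvection_same _ _ hij _ _

theorem tv_zero {i j : ι} (hij : i ≠ j) : tv hij (0 : F) = 1 := by
  apply Units.ext
  exact Matrix.transvection_zero _ _

theorem tv_inv {i j : ι} (hij : i ≠ j) (s : F) : (tv hij s)⁻¹ = tv hij (-s) := by
  rw [inv_eq_iff_mul_eq_one, tv_mul, add_neg_cancel, tv_zero]

theorem map_tv {i j : ι} (hij : i ≠ j) (s : F) (σ : F →+* F) :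
    GeneralLinearGroup.map σ (tv hij s) = tv hij (σ s) := by
  apply Units.ext
  ext a b
  rw [GeneralLinearGroup.map_apply, coe_tv, coe_tv, Matrix.add_apply, Matrix.add_apply, map_add, one_apply,
    single_apply, single_apply]
  congr 1
  · split_ifs
    · exact map_one _
    · exact map_zero _
  · split_ifs
    · rfl
    · exact map_zero _

/-- diagonal elements -/
def dg (c : ι → Fˣ) : GL ι F where
  val := diagonal fun i => (c i : F)
  inv := diagonal fun i => ((c i)⁻¹ : Fˣ)
  val_inv := by
    rw [diagonal_mul_diagonal, ← diagonal_one]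
    congr 1
    funext i
    exact (c i).mul_inv
  inv_val := by
    rw [diagonal_mul_diagonal, ← diagonal_one]
    congr 1
    funext i
    exact (c i).inv_mul

theorem dg_mul (c c' : ι → Fˣ) : dg c * dg c' = dg (c * c') := by
  apply Units.ext
  show diagonal _ * diagonal _ = diagonal _
  rw [diagonal_mul_diagonal]
  congr 1

theorem dg_comm (c c' : ι → Fˣ) : dg c * dg c' = dg c' * dg c := by
  rw [dg_mul, dg_mul, mul_comm]

theorem det_dg (c : ι → Fˣ) : GeneralLinearGroup.det (dg c) = ∏ i, c i := by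
  apply Units.ext
  show (diagonal fun i => (c i : F)).det = _
  rw [det_diagonal]
  push_cast
  rfl

/-- monomial elements -/
def Mono (M : GL ι F) (τ : Equiv.Perm ι) (c : ι → Fˣ) : Prop :=
  ∀ a b, (M : Matrix ι ι F) a b = if a = τ b then (c b : F) else 0

theorem conj_tv {M : GL ι F} {τ : Equiv.Perm ι} {c : ι → Fˣ} (hM : Mono M τ c) {i j : ι} (hij : i ≠ j) (s : F) :
    M * tv hij s * M⁻¹ = tv (τ.injective.ne hij) (c i * s * ((c j)⁻¹ : Fˣ)) := by
  rw [mul_inv_eq_iff_eq_mul]
  apply Units.ext
  rw [GeneralLinearGroup.coe_mul, GeneralLinearGroup.coe_mul, coe_tv, coe_tv, mul_add, add_mul, mul_one, one_mul]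
  congr 1
  ext a b
  rw [Matrix.mul_apply, Matrix.mul_apply, Finset.sum_eq_single i, Finset.sum_eq_single (τ j)]
  · rw [hM, hM, single_apply, single_apply]
    by_cases h1 : a = τ i
    · subst h1
      by_cases h2 : j = b
      · subst h2
        simp
      · have h3 : τ j ≠ τ b := fun h => h2 (τ.injective h)
        simp [h2, h3]
    · have h3 : ¬ (τ i = a ∧ τ j = τ j) := fun h => h1 h.1.symm
      rw [if_neg h1, if_neg h3, zero_mul, zero_mul]
  · intro k _ hk
    rw [single_apply, if_neg (fun h => hk h.2.symm), zero_mul]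
  · intro h
    exact absurd (Finset.mem_univ _) h
  · intro k _ hk
    rw [single_apply, if_neg (fun h => hk h.1.symm), mul_zero]
  · intro h
    exact absurd (Finset.mem_univ _) h

theorem mono_dg (c : ι → Fˣ) : Mono (dg c) (Equiv.refl ι) c := by
  intro a b
  show diagonal _ a b = _
  rw [diagonal_apply, Equiv.refl_apply]
  by_cases h : a = b
  · rw [if_pos h, if_pos h, h]
  · rw [if_neg h, if_neg h]

theorem conj_dg {M : GL ι F} {τ : Equiv.Perm ι} {c : ι → Fˣ} (hM : Mono M τ c) (e : ι → Fˣ) :
    M * dg e * M⁻¹ = dg (fun i => e (τ.symm i)) := by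
  rw [mul_inv_eq_iff_eq_mul]
  apply Units.ext
  rw [GeneralLinearGroup.coe_mul, GeneralLinearGroup.coe_mul]
  show (M : Matrix ι ι F) * diagonal _ = diagonal _ * (M : Matrix ι ι F)
  ext a b
  rw [mul_diagonal, diagonal_mul, hM]
  by_cases h : a = τ b
  · subst h
    rw [if_pos rfl]
    show _ = ((e (τ.symm (τ b)) : Fˣ) : F) * _
    rw [Equiv.symm_apply_apply, mul_comm]
  · rw [if_neg h, zero_mul, mul_zero]

theorem map_dg (c : ι → Fˣ) (σ : F →+* F) :
    GeneralLinearGroup.map σ (dg c) = dg (fun i => Units.map (σ : F →* F) (c i)) := by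
  apply Units.ext
  ext a b
  rw [GeneralLinearGroup.map_apply]
  show σ (diagonal _ a b) = diagonal _ a b
  rw [diagonal_apply, diagonal_apply]
  split_ifs
  · rfl
  · exact map_zero _

/-- the monomial element with permutation `τ` and coefficients `c` -/
theorem exists_mono (τ : Equiv.Perm ι) (c : ι → Fˣ) : ∃ M : GL ι F, Mono M τ c := by
  have hd : IsUnit ((Matrix.of fun a b => if a = τ b then (c b : F) else 0 : Matrix ι ι F)) := by
    have h : (Matrix.of fun a b => if a = τ b then (c b : F) else 0 : Matrix ι ι F) =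
        (Matrix.of fun a b => if a = τ b then (1 : F) else 0) * (dg c : Matrix ι ι F) := by
      ext a b
      show _ = ((Matrix.of fun a b => if a = τ b then (1 : F) else 0) * (diagonal fun i => (c i : F)) : Matrix ι ι F) a b
      rw [mul_diagonal, of_apply, of_apply]
      split_ifs
      · rw [one_mul]
      · rw [zero_mul]
    rw [h]
    refine IsUnit.mul ?_ (dg c).isUnit
    refine ⟨⟨Matrix.of fun a b => if a = τ b then (1 : F) else 0, Matrix.of fun a b => if b = τ a then (1 : F) else 0,
      ?_, ?_⟩, rfl⟩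
    · ext a b
      rw [Matrix.mul_apply, Finset.sum_eq_single (τ.symm a)]
      · rw [of_apply, of_apply, Equiv.apply_symm_apply, if_pos rfl, one_mul, one_apply]
        by_cases h : b = a
        · rw [if_pos h, if_pos h.symm]
        · rw [if_neg h, if_neg (fun e => h e.symm)]
      · intro k _ hk
        rw [of_apply, if_neg (fun e => hk (by rw [e, Equiv.symm_apply_apply])), zero_mul]
      · intro h
        exact absurd (Finset.mem_univ _) h
    · ext a b
      rw [Matrix.mul_apply, Finset.sum_eq_single (τ a)]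
      · rw [of_apply, of_apply, if_pos rfl, one_mul, one_apply]
        by_cases h : a = b
        · rw [if_pos h, h, if_pos rfl]
        · rw [if_neg h, if_neg (fun e => h (τ.injective e))]
      · intro k _ hk
        rw [of_apply, if_neg hk, zero_mul]
      · intro h
        exact absurd (Finset.mem_univ _) h
  obtain ⟨u, hu⟩ := hd
  refine ⟨u, fun a b => ?_⟩
  rw [hu, of_apply]

theorem conj_dg_tv (c : ι → Fˣ) {i j : ι} (hij : i ≠ j) (s : F) :
    dg c * tv hij s * (dg c)⁻¹ = tv hij (c i * s * ((c j)⁻¹ : Fˣ)) :=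
  conj_tv (mono_dg c) hij s

theorem mono_mul_dg {M : GL ι F} {τ : Equiv.Perm ι} {c : ι → Fˣ} (hM : Mono M τ c) (e : ι → Fˣ) :
    Mono (M * dg e) τ (c * e) := by
  intro a b
  rw [GeneralLinearGroup.coe_mul]
  show ((M : Matrix ι ι F) * (diagonal fun i => (e i : F)) : Matrix ι ι F) a b = _
  rw [mul_diagonal, hM]
  split_ifs
  · rw [Pi.mul_apply, Units.val_mul]
  · rw [zero_mul]

end General

section Cyc

variable {K : Type*} [Field K] {n : ℕ}

theorem ne_succ (hn : 1 ≤ n) (i : Fin (n + 1)) : i ≠ i + 1 := by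
  intro hi
  have h01 : (0 : Fin (n + 1)) ≠ 1 := by
    obtain ⟨m, rfl⟩ : ∃ m, n = m + 1 := ⟨n - 1, by omega⟩
    exact Fin.zero_ne_one
  apply h01
  have : i + 0 = i + 1 := by rw [add_zero]; exact hi
  exact add_left_cancel this

/-- **generation**: a subgroup containing the root group `X₀₁` and stable under the shift is everything. -/
theorem eq_top_of_step (hn : 1 ≤ n) (H : Subgroup (Matrix.SpecialLinearGroup (Fin (n + 1)) K))
    (hX : ∀ a : K, Matrix.SpecialLinearGroup.transvection (ne_succ hn 0) a ∈ H)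
    (hs : ∀ i : Fin (n + 1), (∀ a : K, Matrix.SpecialLinearGroup.transvection (ne_succ hn i) a ∈ H) →
      ∀ a : K, Matrix.SpecialLinearGroup.transvection (ne_succ hn (i + 1)) a ∈ H) : H = ⊤ := by
  have h1 : ∀ k : ℕ, ∀ a : K, Matrix.SpecialLinearGroup.transvection (ne_succ hn (k : Fin (n + 1))) a ∈ H := by
    intro k
    induction k with
    | zero =>
      intro a
      have := hX a
      convert this using 2
    | succ k ih =>
      intro a
      have := hs _ ih a
      convert this using 2 <;> rw [Nat.cast_succ]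
  have h2 : ∀ i : Fin (n + 1), ∀ a : K, Matrix.SpecialLinearGroup.transvection (ne_succ hn i) a ∈ H := by
    intro i a
    have := h1 (i : ℕ) a
    convert this using 2
    · rw [Fin.cast_val_eq_self]
    · rw [Fin.cast_val_eq_self]
  -- all root groups
  have h3 : ∀ d : ℕ, 1 ≤ d → d ≤ n → ∀ i : Fin (n + 1), ∀ (h : i ≠ i + (d : Fin (n + 1))) (a : K),
      Matrix.SpecialLinearGroup.transvection h a ∈ H := by
    intro d
    induction d with
    | zero => intro h; omega
    | succ d ih =>
      intro _ hd i h a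
      by_cases hd0 : d = 0
      · subst hd0
        have := h2 i a
        convert this using 2
      · have hdn : d < n + 1 := by omega
        have hne1 : i ≠ i + (d : Fin (n + 1)) := by
          intro e
          have e1 : i + 0 = i + (d : Fin (n + 1)) := by rw [add_zero]; exact e
          have e2 := add_left_cancel e1
          have e3 := congrArg Fin.val e2
          rw [Fin.val_natCast, Nat.mod_eq_of_lt hdn] at e3
          simp at e3
          omega
        have h4 := ih (by omega) (by omega) i hne1 a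
        have h5 := h2 (i + (d : Fin (n + 1))) 1
        have hik : i ≠ i + (d : Fin (n + 1)) + 1 := by
          intro e
          apply h
          rw [Nat.cast_succ, ← add_assoc]
          exact e
        have h6 := Cfsg.Agent.LieClassical.SLGen.commutator_transvection hik hne1
          (ne_succ hn (i + (d : Fin (n + 1)))) a (1 : K)
        rw [mul_one] at h6
        have h7 : Matrix.SpecialLinearGroup.transvection hik a ∈ H := by
          rw [← h6, commutatorElement_def]
          exact H.mul_mem (H.mul_mem (H.mul_mem h4 h5) (H.inv_mem h4)) (H.inv_mem h5)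
        convert h7 using 2
        rw [Nat.cast_succ, ← add_assoc]
  rw [eq_top_iff, ← Cfsg.Agent.LieClassical.SLGen.closure_transvections, Subgroup.closure_le]
  rintro _ ⟨i, j, hij, c, rfl⟩
  have hj : j = i + (((j - i : Fin (n + 1)) : ℕ) : Fin (n + 1)) := by
    rw [Fin.cast_val_eq_self]
    exact (add_sub_cancel i j).symm
  have hd1 : 1 ≤ ((j - i : Fin (n + 1)) : ℕ) := by
    rw [Nat.one_le_iff_ne_zero]
    intro e
    apply hij
    have : j - i = 0 := Fin.ext e
    exact (sub_eq_zero.1 this).symm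
  have hd2 : ((j - i : Fin (n + 1)) : ℕ) ≤ n := by
    have := (j - i).2
    omega
  have h4 := h3 ((j - i : Fin (n + 1)) : ℕ) hd1 hd2 i (fun e => hij (e.trans hj.symm)) c
  have h5 : Matrix.SpecialLinearGroup.transvection hij c =
      Matrix.SpecialLinearGroup.transvection (fun e => hij (e.trans hj.symm)) c := by
    congr 1
  rw [SetLike.mem_coe, h5]
  exact h4

/-- the cyclic shift -/
def cyc (n : ℕ) : Equiv.Perm (Fin (n + 1)) := Equiv.addRight 1

theorem cyc_apply (i : Fin (n + 1)) : cyc n i = i + 1 := rfl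

theorem cyc_symm_apply (i : Fin (n + 1)) : (cyc n).symm (i + 1) = i := (cyc n).symm_apply_eq.2 rfl

end Cyc

/-! ### the choice of the diagonal element -/

section Choice

variable {F : Type*} [Field F] [Fintype F] {n : ℕ}

theorem exists_gen : ∃ z : Fˣ, ∀ u : Fˣ, u ∈ Subgroup.zpowers z := by
  obtain ⟨z, hz⟩ := IsCyclic.exists_generator (α := Fˣ)
  exact ⟨z, hz⟩

theorem orderOf_gen {z : Fˣ} (hz : ∀ u : Fˣ, u ∈ Subgroup.zpowers z) : orderOf z = Fintype.card F - 1 := by
  classical
  rw [← Nat.card_zpowers, (Subgroup.eq_top_iff' _).2 hz, Subgroup.card_top, Nat.card_eq_fintype_card,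
    Fintype.card_units]

/-- diagonal entries with prescribed product: the first two have ratio a generator of `Fˣ` or its square, and the last
differs from the first -/
theorem exists_diag (hn : 1 ≤ n) (hF : 3 ≤ Fintype.card F) (h2 : n = 1 → 4 ≤ Fintype.card F) (δ : Fˣ) :
    ∃ (c : Fin (n + 1) → Fˣ) (z : Fˣ), (∀ u : Fˣ, u ∈ Subgroup.zpowers z) ∧ ∏ i, c i = δ ∧
      (c 0 = c 1 * z ∨ c 0 = c 1 * z ^ 2) ∧ c 0 ≠ c 1 ∧ c (Fin.last n) ≠ c 0 := by
  classical
  obtain ⟨z, hz⟩ := exists_gen (F := F)
  have ho := orderOf_gen hz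
  have hz1 : z ≠ 1 := by
    intro e
    rw [← orderOf_eq_one_iff] at e
    omega
  obtain ⟨m, rfl⟩ : ∃ m, n = m + 1 := ⟨n - 1, by omega⟩
  rcases Nat.lt_or_ge m 1 with hm | hm
  · -- `n = 1`
    obtain rfl : m = 0 := by omega
    have hz2 : z ^ 2 ≠ 1 := by
      intro e
      have := orderOf_le_of_pow_eq_one (by norm_num) e
      have := h2 rfl
      omega
    obtain ⟨k, hk⟩ := hz δ
    rcases Int.even_or_odd' k with ⟨l, hl | hl⟩
    · -- `δ = z ^ (2 l)`
      have hlast : z ^ (l - 1) ≠ z ^ (l + 1) := by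
        intro e
        apply hz2
        have e1 : z ^ (l + 1) = z ^ (l - 1) * z ^ 2 := by
          rw [← zpow_natCast, ← _root_.zpow_add]
          congr 1
          push_cast
          ring
        rw [e1] at e
        exact (mul_eq_left.1 e.symm)
      refine ⟨![z ^ (l + 1), z ^ (l - 1)], z, hz, ?_, Or.inr ?_, hlast.symm, hlast⟩
      · rw [Fin.prod_univ_two]
        show z ^ (l + 1) * z ^ (l - 1) = δ
        rw [← _root_.zpow_add, ← hk]
        show z ^ _ = z ^ k
        rw [hl]
        congr 1
        ring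
      · show z ^ (l + 1) = z ^ (l - 1) * z ^ 2
        rw [← zpow_natCast, ← _root_.zpow_add]
        congr 1
        push_cast
        ring
    · -- `δ = z ^ (2 l + 1)`
      have hlast : z ^ l ≠ z ^ (l + 1) := by
        intro e
        apply hz1
        rw [_root_.zpow_add_one] at e
        exact (mul_eq_left.1 e.symm)
      refine ⟨![z ^ (l + 1), z ^ l], z, hz, ?_, Or.inl ?_, hlast.symm, hlast⟩
      · rw [Fin.prod_univ_two]
        show z ^ (l + 1) * z ^ l = δ
        rw [← _root_.zpow_add, ← hk]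
        show z ^ _ = z ^ k
        rw [hl]
        congr 1
        ring
      · show z ^ (l + 1) = z ^ l * z
        rw [_root_.zpow_add_one]
  · rcases Nat.lt_or_ge m 2 with hm2 | hm2
    · -- `n = 2`
      obtain rfl : m = 1 := by omega
      obtain ⟨w, s, hw, hws⟩ : ∃ w s : Fˣ, (∀ u : Fˣ, u ∈ Subgroup.zpowers w) ∧ w ^ 2 * s ^ 3 ≠ δ := by
        by_cases h3 : z ^ 2 = δ
        · by_cases h4 : z ^ 3 = 1
          · refine ⟨z⁻¹, 1, ?_, ?_⟩
            · intro u
              rw [Subgroup.zpowers_inv]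
              exact hz u
            · rw [one_pow, mul_one, ← h3]
              intro e
              apply hz1
              rw [inv_pow, inv_eq_iff_mul_eq_one, ← pow_add] at e
              calc z = z ^ (2 + 2) * (z ^ 3)⁻¹ := by group
                _ = 1 := by rw [e, h4, inv_one, one_mul]
          · refine ⟨z, z, hz, ?_⟩
            rw [← h3]
            intro e
            exact h4 (mul_eq_left.1 e)
        · exact ⟨z, 1, hz, by rwa [one_pow, mul_one]⟩
      refine ⟨![w * s, s, δ * (w * s ^ 2)⁻¹], w, hw, ?_, Or.inl ?_, ?_, ?_⟩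
      · rw [Fin.prod_univ_three]
        show w * s * s * (δ * (w * s ^ 2)⁻¹) = δ
        rw [mul_comm δ, ← mul_assoc, pow_two, ← mul_assoc w, mul_inv_cancel, one_mul]
      · show w * s = s * w
        exact mul_comm _ _
      · show w * s ≠ s
        intro e
        have hw1 : w = 1 := mul_eq_right.1 e
        have := orderOf_gen hw
        rw [hw1, orderOf_one] at this
        omega
      · show δ * (w * s ^ 2)⁻¹ ≠ w * s
        intro e
        apply hws
        rw [mul_inv_eq_iff_eq_mul] at e
        rw [e]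
        apply Units.ext
        push_cast
        ring
    · -- `n ≥ 3`
      obtain ⟨k, rfl⟩ : ∃ k, m = k + 2 := ⟨m - 2, by omega⟩
      refine ⟨Fin.cons z (Fin.cons 1 (Fin.cons (δ * z⁻¹) fun _ => 1)), z, hz, ?_, Or.inl ?_, hz1, ?_⟩
      · rw [Fin.prod_cons, Fin.prod_cons, Fin.prod_cons, Finset.prod_const_one, mul_one, one_mul, mul_comm,
          inv_mul_cancel_right]
      · show z = 1 * z
        rw [one_mul]
      · show (1 : Fˣ) ≠ z
        exact fun e => hz1 e.symm

end Choice

/-! ### the lift -/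

section Main

variable {F : Type*} [Field F] {n : ℕ} {Γ : Type*} [Group Γ]

/-- the root group `X₀₁` in `Γ` -/
def X (j : GL (Fin (n + 1)) F →* Γ) (hn : 1 ≤ n) : Subgroup Γ where
  carrier := {g | ∃ s : F, g = j (tv (ne_succ hn 0) s)}
  mul_mem' := by
    rintro _ _ ⟨s, rfl⟩ ⟨t, rfl⟩
    exact ⟨s + t, by rw [← map_mul, tv_mul]⟩
  one_mem' := ⟨0, by rw [tv_zero, map_one]⟩
  inv_mem' := by
    rintro _ ⟨s, rfl⟩
    exact ⟨-s, by rw [← map_inv, tv_inv]⟩

theorem X_irr [Finite F] (j : GL (Fin (n + 1)) F →* Γ) (hn : 1 ≤ n) {h : Γ} {a : F} {z : Fˣ}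
    (hz : ∀ u : Fˣ, u ∈ Subgroup.zpowers z) (ha : a = z ∨ a = (z : F) ^ 2)
    (hc : ∀ s : F, h * j (tv (ne_succ hn 0) s) * h⁻¹ = j (tv (ne_succ hn 0) (a * s)))
    (Y : Subgroup Γ) (hY : Y ≤ X j hn) (hhY : ∀ y ∈ Y, h * y * h⁻¹ ∈ Y) : Y = ⊥ ∨ Y = X j hn := by
  let A : AddSubgroup F :=
    { carrier := {s | j (tv (ne_succ hn 0) s) ∈ Y}
      add_mem' := by
        intro s t hs ht
        have := Y.mul_mem hs ht
        rwa [← map_mul, tv_mul] at this
      zero_mem' := by
        change j (tv (ne_succ hn 0) (0 : F)) ∈ Y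
        rw [tv_zero, map_one]
        exact Y.one_mem
      neg_mem' := by
        intro s hs
        have h1 := Y.inv_mem hs
        rwa [← map_inv, tv_inv] at h1 }
  have hA : ∀ s, s ∈ A ↔ j (tv (ne_succ hn 0) s) ∈ Y := fun s => Iff.rfl
  have hcl : ∀ s ∈ A, a * s ∈ A := by
    intro s hs
    rw [hA] at hs ⊢
    rw [← hc]
    exact hhY _ hs
  rcases Cfsg.Agent.H136.FieldLem.eq_bot_or_top hz A (fun s hs => by
    rcases ha with ha | ha
    · have h1 := hcl _ (hcl s hs)
      rwa [ha, ← mul_assoc, ← pow_two] at h1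
    · have h1 := hcl s hs
      rwa [ha] at h1) with h1 | h1
  · left
    rw [eq_bot_iff]
    intro y hy
    obtain ⟨s, rfl⟩ := hY hy
    have h2 : s ∈ A := hy
    rw [h1, AddSubgroup.mem_bot] at h2
    rw [h2, tv_zero, map_one]
    exact Subgroup.mem_bot.2 rfl
  · right
    refine le_antisymm hY ?_
    rintro _ ⟨s, rfl⟩
    have h2 : s ∈ A := by rw [h1]; exact AddSubgroup.mem_top _
    exact h2

variable {j : GL (Fin (n + 1)) F →* Γ} {σ : F ≃+* F} {f : Γ}

theorem conj_w (hf : ∀ A, f * j A * f⁻¹ = j (GeneralLinearGroup.map (σ : F →+* F) A)) (M A : GL (Fin (n + 1)) F) :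
    (j M * f) * j A * (j M * f)⁻¹ = j (M * GeneralLinearGroup.map (σ : F →+* F) A * M⁻¹) := by
  rw [map_mul, map_mul, map_inv, ← hf]
  group

theorem range_le (hn : 1 ≤ n) (hf : ∀ A, f * j A * f⁻¹ = j (GeneralLinearGroup.map (σ : F →+* F) A))
    {M : GL (Fin (n + 1)) F} {m : Fin (n + 1) → Fˣ} (hM : Mono M (cyc n) m) (M₀ : Subgroup Γ) (hX : X j hn ≤ M₀)
    (hw : j M * f ∈ M₀) : (j.comp SpecialLinearGroup.toGL).range ≤ M₀ := by
  have h1 : M₀.comap (j.comp SpecialLinearGroup.toGL) = ⊤ := by
    refine eq_top_of_step hn _ (fun a => hX ⟨a, rfl⟩) ?_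
    intro i hi a
    show j (tv (ne_succ hn (i + 1)) a) ∈ M₀
    have h2 := hi (σ.symm (((m i)⁻¹ : Fˣ) * a * (m (i + 1) : F)))
    replace h2 : j (tv (ne_succ hn i) (σ.symm (((m i)⁻¹ : Fˣ) * a * (m (i + 1) : F)))) ∈ M₀ := h2
    have h3 := M₀.mul_mem (M₀.mul_mem hw h2) (M₀.inv_mem hw)
    rw [conj_w hf, map_tv, conj_tv hM] at h3
    have e1 := (m i).ne_zero
    have e2 := (m (i + 1)).ne_zero
    have h4 : (m i : F) * (σ : F →+* F) (σ.symm (((m i)⁻¹ : Fˣ) * a * (m (i + 1) : F))) * ((m (i + 1))⁻¹ : Fˣ) = a := by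
      show (m i : F) * σ (σ.symm _) * _ = a
      rw [RingEquiv.apply_symm_apply, Units.val_inv_eq_inv_val, Units.val_inv_eq_inv_val]
      field_simp
    rw [h4] at h3
    exact h3
  rintro _ ⟨A, rfl⟩
  have h2 : A ∈ M₀.comap (j.comp SpecialLinearGroup.toGL) := by rw [h1]; trivial
  exact h2

/-- an element of `GL` with determinant one, times a homomorphism -/
theorem mem_range {A : GL (Fin (n + 1)) F} (hA : GeneralLinearGroup.det A = 1) :
    j A ∈ (j.comp SpecialLinearGroup.toGL).range := by
  have h1 : (A : Matrix (Fin (n + 1)) (Fin (n + 1)) F).det = 1 := by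
    have := congrArg Units.val hA
    exact this
  refine ⟨⟨A, h1⟩, ?_⟩
  have h2 : SpecialLinearGroup.toGL ⟨(A : Matrix (Fin (n + 1)) (Fin (n + 1)) F), h1⟩ = A := Units.ext rfl
  show j (SpecialLinearGroup.toGL ⟨A, h1⟩) = j A
  rw [h2]

theorem lift_of {N : Subgroup Γ} {x y x' y' : Γ} (hx : x⁻¹ * x' ∈ N) (hy : y⁻¹ * y' ∈ N)
    (h : N ≤ Subgroup.closure ({x', y'} : Set Γ)) : Lift N x y :=
  ⟨_, hx, _, hy, by rwa [mul_inv_cancel_left, mul_inv_cancel_left]⟩

/-- **the lift** -/
theorem lift_gl [Fintype F] (hn : 1 ≤ n) (h2 : n = 1 → 4 ≤ Fintype.card F) (j : GL (Fin (n + 1)) F →* Γ) (σ : F ≃+* F)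
    (f : Γ) (hf : ∀ A, f * j A * f⁻¹ = j (GeneralLinearGroup.map (σ : F →+* F) A))
    (hj : ∀ (h : (0 : Fin (n + 1)) ≠ 1) (s : F),
      j (SpecialLinearGroup.toGL (SpecialLinearGroup.transvection h s)) = 1 → s = 0)
    (A B : GL (Fin (n + 1)) F) : Lift (j.comp SpecialLinearGroup.toGL).range (j A) (j B * f) := by
  have h01 : (0 : Fin (n + 1)) ≠ 1 := by
    have := ne_succ hn 0
    rwa [zero_add] at this
  have hj' : ∀ s t : F, j (tv (ne_succ hn 0) s) = j (tv (ne_succ hn 0) t) → s = t := by
    intro s t hst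
    have h1 : j (tv (ne_succ hn 0) (s - t)) = 1 := by
      rw [sub_eq_add_neg, ← tv_mul, ← tv_inv, map_mul, hst, map_inv, mul_inv_cancel]
    have h3 : ∀ (i : Fin (n + 1)) (hi : 0 ≠ i), i = 1 → j (tv hi (s - t)) = 1 → s - t = 0 := by
      rintro _ hi rfl h4
      exact hj hi (s - t) h4
    exact sub_eq_zero.1 (h3 _ (ne_succ hn 0) (zero_add 1) h1)
  -- `y' = u w`
  obtain ⟨W, hW⟩ := exists_mono (F := F) (cyc n) (fun _ => 1)
  obtain ⟨m, M, hM, hMd⟩ : ∃ (m : Fin (n + 1) → Fˣ) (M : GL (Fin (n + 1)) F), Mono M (cyc n) m ∧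
      GeneralLinearGroup.det M = GeneralLinearGroup.det B := by
    refine ⟨_, _, mono_mul_dg hW (Pi.mulSingle 0 ((GeneralLinearGroup.det W)⁻¹ * GeneralLinearGroup.det B)), ?_⟩
    rw [map_mul, det_dg, Finset.prod_pi_mulSingle', if_pos (Finset.mem_univ _), mul_inv_cancel_left]
  have hdtv : ∀ s : F, GeneralLinearGroup.det (tv (ne_succ hn 0) s) = 1 := by
    intro s
    apply Units.ext
    exact Matrix.det_transvection_of_ne _ _ (ne_succ hn 0) s
  have hnorm : ∀ C : GL (Fin (n + 1)) F, GeneralLinearGroup.det C = 1 →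
      f⁻¹ * j C * f ∈ (j.comp SpecialLinearGroup.toGL).range := by
    intro C hC
    have h3 := hf (GeneralLinearGroup.map (σ.symm : F →+* F) C)
    have h4 : GeneralLinearGroup.map (σ : F →+* F) (GeneralLinearGroup.map (σ.symm : F →+* F) C) = C := by
      apply Units.ext
      ext a b
      rw [GeneralLinearGroup.map_apply, GeneralLinearGroup.map_apply]
      exact σ.apply_symm_apply _
    rw [h4] at h3
    have h5 : f⁻¹ * j C * f = j (GeneralLinearGroup.map (σ.symm : F →+* F) C) := by
      rw [← h3]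
      group
    rw [h5]
    apply mem_range
    rw [GeneralLinearGroup.map_det, hC]
    exact map_one _
  have hy : ∀ u : GL (Fin (n + 1)) F, GeneralLinearGroup.det u = 1 →
      (j B * f)⁻¹ * (j u * (j M * f)) ∈ (j.comp SpecialLinearGroup.toGL).range := by
    intro u hu
    have h3 : (j B * f)⁻¹ * (j u * (j M * f)) = f⁻¹ * j (B⁻¹ * u * M) * f := by
      rw [map_mul, map_mul, map_inv]
      group
    rw [h3]
    apply hnorm
    rw [map_mul, map_mul, map_inv, hu, mul_one, hMd, inv_mul_cancel]
  rcases Nat.lt_or_ge (Fintype.card F) 3 with hF | hF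
  · -- `|F| = 2`
    have hF2 : ∀ s : F, s = 0 ∨ s = 1 := by
      intro s
      by_contra hcon
      push Not at hcon
      classical
      have h3 : ({0, 1, s} : Finset F).card ≤ Fintype.card F := Finset.card_le_univ _
      rw [Finset.card_insert_of_notMem, Finset.card_insert_of_notMem, Finset.card_singleton] at h3
      · omega
      · rw [Finset.mem_singleton]
        exact fun e => hcon.2 e.symm
      · simp only [Finset.mem_insert, Finset.mem_singleton, not_or]
        exact ⟨zero_ne_one, fun e => hcon.1 e.symm⟩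
    have hA : GeneralLinearGroup.det A = 1 := by
      apply Units.ext
      rcases hF2 (GeneralLinearGroup.det A : Fˣ) with h3 | h3
      · exact absurd h3 (Units.ne_zero _)
      · exact h3
    refine lift_of (x' := j (tv (ne_succ hn 0) 1)) (y' := j 1 * (j M * f)) ?_ (hy 1 (map_one _)) ?_
    · rw [← map_inv, ← map_mul]
      apply mem_range
      rw [map_mul, map_inv, hA, hdtv, inv_one, one_mul]
    · refine range_le hn hf hM _ ?_ ?_
      · rintro _ ⟨s, rfl⟩
        rcases hF2 s with rfl | rfl
        · rw [tv_zero, map_one]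
          exact Subgroup.one_mem _
        · exact Subgroup.subset_closure (by simp)
      · rw [map_one, one_mul]
        exact Subgroup.subset_closure (by simp)
  · obtain ⟨c, z, hz, hcd, hc01, hcne, hcl⟩ := exists_diag hn hF h2 (GeneralLinearGroup.det A)
    refine lift_of (x' := j (dg c)) (y' := j (tv (ne_succ hn 0) 1) * (j M * f)) ?_ (hy _ (hdtv _)) ?_
    · rw [← map_inv, ← map_mul]
      apply mem_range
      rw [map_mul, map_inv, det_dg, hcd, inv_mul_cancel]
    · -- the torus trick
      have hw : (j M * f) * j (dg c) * (j M * f)⁻¹ =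
          j (dg fun i => Units.map ((σ : F →+* F) : F →* F) (c ((cyc n).symm i))) := by
        rw [conj_w hf, map_dg, conj_dg hM]
      set c' : Fin (n + 1) → Fˣ := fun i => Units.map ((σ : F →+* F) : F →* F) (c ((cyc n).symm i)) with hc'
      have hconj : ∀ s : F, j (dg c) * j (tv (ne_succ hn 0) s) * (j (dg c))⁻¹ =
          j (tv (ne_succ hn 0) ((c 0 : F) * ((c (0 + 1))⁻¹ : Fˣ) * s)) := by
        intro s
        rw [← map_mul, ← map_inv, ← map_mul, conj_dg_tv]
        congr 2
        ring
      have hconj' : ∀ s : F, j (dg c') * j (tv (ne_succ hn 0) s) * (j (dg c'))⁻¹ =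
          j (tv (ne_succ hn 0) ((c' 0 : F) * s * ((c' (0 + 1))⁻¹ : Fˣ))) := by
        intro s
        rw [← map_mul, ← map_inv, ← map_mul, conj_dg_tv]
      have ha : (c 0 : F) * ((c (0 + 1))⁻¹ : Fˣ) = z ∨ (c 0 : F) * ((c (0 + 1))⁻¹ : Fˣ) = (z : F) ^ 2 := by
        rw [zero_add]
        rcases hc01 with h3 | h3
        · left
          rw [h3, ← Units.val_mul, mul_comm (c 1), mul_inv_cancel_right]
        · right
          rw [h3, ← Units.val_mul, mul_comm (c 1), mul_inv_cancel_right, Units.val_pow_eq_pow_val]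
      have ha1 : (c 0 : F) * ((c (0 + 1))⁻¹ : Fˣ) ≠ 1 := by
        rw [← Units.val_mul]
        intro e
        apply hcne
        have h3 : c 0 * (c (0 + 1))⁻¹ = 1 := Units.ext e
        rw [zero_add, mul_inv_eq_one] at h3
        exact h3
      have hc'1 : c' 0 ≠ c' (0 + 1) := by
        intro e
        apply hcl
        have h3 : (cyc n).symm 0 = Fin.last n := by
          rw [Equiv.symm_apply_eq]
          exact (Fin.last_add_one n).symm
        have h4 : c' 0 = Units.map ((σ : F →+* F) : F →* F) (c (Fin.last n)) := by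
          show Units.map ((σ : F →+* F) : F →* F) (c ((cyc n).symm 0)) = _
          rw [h3]
        have h5 : c' (0 + 1) = Units.map ((σ : F →+* F) : F →* F) (c 0) := by
          show Units.map ((σ : F →+* F) : F →* F) (c ((cyc n).symm (0 + 1))) = _
          rw [cyc_symm_apply]
        rw [h4, h5] at e
        have h6 := congrArg Units.val e
        exact Units.ext (σ.injective h6)
      have key := Cfsg.Agent.H136.TwoGen.torus_trick
        (Subgroup.closure ({j (dg c), j (tv (ne_succ hn 0) 1) * (j M * f)} : Set Γ)) (X j hn) (h := j (dg c))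
        (w := j M * f) (u := j (tv (ne_succ hn 0) 1)) (Subgroup.subset_closure (by simp))
        (Subgroup.subset_closure (by simp)) ⟨1, rfl⟩
        (by
          rintro _ ⟨s, rfl⟩
          rw [hw]
          exact ⟨_, hconj' s⟩)
        (by
          rintro _ ⟨s, rfl⟩
          rw [hw]
          refine ⟨((c' 0)⁻¹ : Fˣ) * s * (c' (0 + 1)), ?_⟩
          have h3 := hconj' (((c' 0)⁻¹ : Fˣ) * s * (c' (0 + 1)))
          have h4 : (c' 0 : F) * (((c' 0)⁻¹ : Fˣ) * s * (c' (0 + 1))) * ((c' (0 + 1))⁻¹ : Fˣ) = s := by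
            rw [← mul_assoc, ← mul_assoc, Units.mul_inv, one_mul, Units.mul_inv_cancel_right]
          rw [h4] at h3
          rw [← h3]
          group)
        (fun Y hY hhY => X_irr j hn hz ha hconj Y hY hhY)
        ⟨j (tv (ne_succ hn 0) 1), ⟨1, rfl⟩, by
          intro e
          have h3 := hconj 1
          rw [e, mul_inv_cancel_right] at h3
          have h4 := hj' _ _ h3
          rw [mul_one] at h4
          exact ha1 h4.symm⟩
        (by
          rintro _ ⟨s, rfl⟩
          exact ⟨_, hconj s⟩)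
        (by
          rw [hw, ← map_mul, ← map_mul, dg_comm])
        (by
          rw [hw]
          intro e
          have h3 := hconj' 1
          rw [e, mul_inv_cancel_right] at h3
          have h4 := hj' _ _ h3
          rw [mul_one, ← Units.val_mul] at h4
          apply hc'1
          rw [← mul_inv_eq_one]
          exact (Units.ext h4).symm)
      exact range_le hn hf hM _ key.1 key.2

end Main

end Cfsg.Agent.H99.GenSL
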