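import Cfsg.Agent.H759.TwF.Main
import Cfsg.Agent.H254.FxTools

/-!
# Normalizers of cyclic subgroups of the tori of `²F₄(q)` (helper99)
-/

set_option autoImplicit false
set_option linter.unusedSectionVars false

namespace Cfsg.Agent.H99.FxTwF4

open CoxeterSystem Cfsg Cfsg.Lie Cfsg.Lie.ChevalleyDatum
open Cfsg.Agent.ChevalleyStructure Cfsg.Agent.ChevalleyStructure.Elts Cfsg.Agent.ChevalleyStructure.CoxeterGeom
  Cfsg.Agent.ChevalleyStructure.CoxeterGeomTypes Cfsg.Agent.ChevalleyStructure.NPerm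
  Cfsg.Agent.ChevalleyStructure.RootVec
open Cfsg.Agent.Tits.Roots Cfsg.Agent.Tits.Core Cfsg.Agent.Nodes Cfsg.Agent.Nodes.Reps Cfsg.Agent.Nodes.BNOf
  Cfsg.Agent.Nodes.RGDChev
open Cfsg.Agent.KFacts.RgdField Cfsg.Agent.KFacts.RgdChevCoord Cfsg.Agent.BpExc.TorCent Cfsg.Agent.BpExc.TorChev
open Cfsg.Agent.GpExc.Field Cfsg.Agent.BpExc.Tow Cfsg.Agent.BpExc.TowChev
  Cfsg.Agent.BpExc.LangFr Cfsg.Agent.BpExc Cfsg.Agent.H129.TorusChar Cfsg.Agent.H129.TorusUntw
open Cfsg.Agent.H493.F4End Cfsg.Agent.H493.F4Tor Cfsg.Agent.H129.WData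
open Cfsg.Agent.H630.NH Cfsg.Agent.H630.Exc
open Cfsg.Agent.H759.TwF

universe u v

theorem am_tab : ∀ i n : Fin 4, H493.PGF4T.Am i (rv n) * (eN (rv n) : ℤ) = (eN i : ℤ) * H493.PGF4T.Am (rv i) n := by
  decide +kernel

section

variable {W : Type*} [Group W] (cs : CoxeterSystem CoxeterMatrix.F₄ W)

theorem simple_Tt (b : ℤ) (i : Fin 4) (x : Fin 4 → ℤ) :
    rep cs hp.isCartan (cs.simple i) (Tt b x) = Tt b (rep cs hp.isCartan (cs.simple (rv i)) x) := by
  refine hom_ext ((wh cs (cs.simple i)).comp (Tt b)) ((Tt b).comp (wh cs (cs.simple (rv i)))) (fun n => ?_) x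
  show rep cs hp.isCartan (cs.simple i) (Tt b (sr n)) = Tt b (rep cs hp.isCartan (cs.simple (rv i)) (sr n))
  have hA : ∀ i j, pairing (cartanOf chevF4 4) i (sr j) = H493.PGF4T.Am i j := by
    intro i j
    rw [H493.PGF4T.hA, sr]
    rw [pairing_single, mul_one]
  rw [Tt_sr', map_zsmul, rep_simple_eq, rep_simple_eq, hA, hA, map_sub, Tt_sr', map_zsmul, Tt_sr', rv_rv, smul_sub]
  congr 1
  rw [smul_smul, smul_smul]
  congr 1
  have := am_tab i n
  linear_combination b * this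

theorem wordProd_Tt (b : ℤ) (L : List (Fin 4)) (x : Fin 4 → ℤ) :
    rep cs hp.isCartan (cs.wordProd L) (Tt b x) = Tt b (rep cs hp.isCartan (cs.wordProd (L.map rv)) x) := by
  induction L generalizing x with
  | nil => rw [List.map_nil, wordProd_nil, map_one, Module.End.one_apply, Module.End.one_apply]
  | cons i L ih =>
    rw [List.map_cons, wordProd_cons, wordProd_cons, rep_mul_apply, rep_mul_apply, ih, simple_Tt]

theorem map_rv_rv (L : List (Fin 4)) : (L.map rv).map rv = L := by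
  rw [List.map_map]
  conv_rhs => rw [← List.map_id L]
  exact List.map_congr_left fun i _ => rv_rv i

variable {k : Type u} [Field k] [IsAlgClosed k] [CharP k 2]

theorem cX_sq {m : ℕ} {L : List (Fin 4)} {t : ↥(chevF4.group k)} (ht : t ∈ TT chevF4 k)
    (hI : H759.TwF.InT cs m (cs.wordProd L) t) (x : Fin 4 → ℤ) :
    cX hp t (rep cs hp.isCartan (cs.wordProd L * cs.wordProd (L.map rv)) x) = cX hp t x ^ 2 ^ (2 * m + 1) := by
  rw [rep_mul_apply, hI, ← wordProd_Tt, hI, Tt_Tt, (isMC_cX hp ht).zsmul]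
  have h9 : (2 * (2 ^ m) ^ 2 : ℤ) = ((2 ^ (2 * m + 1) : ℕ) : ℤ) := by push_cast; rw [← pow_mul]; ring
  rw [h9, zpow_natCast]

end

section Fin

variable {K : Type u} [Field K] [Fintype K] {m : ℕ} (hK : Fintype.card K = 2 ^ (2 * m + 1))

include hK

/-- **An element of order `r` conjugate to its `q`-th power.** -/
theorem exists_conj_pow {d : TD} (hd : OkT d) (hd3 : Ok3 d) (hpos : 0 < pe (2 ^ m) d.N) {r : ℕ} (hr : r.Prime)
    (hr2 : r ≠ 2) (h3 : d.me = 0 ∨ r ≠ 3) (hrN : (r : ℤ) ∣ pe (2 ^ m) d.N) :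
    ∃ x u : ↥(twistedF4 K (2 ^ m)), orderOf x = r ∧ u * x * u⁻¹ = x ^ 2 ^ (2 * m + 1) := by
  classical
  have : Fact (Nat.Prime 2) := ⟨Nat.prime_two⟩
  have : Fact r.Prime := ⟨hr⟩
  have hc2 : CharP K 2 := F4Fixed.charP_two hK
  obtain ⟨p, e, hpF, hpc, hpk, he, hpe, hk⟩ := exists_closure hK
  have hp2 : p = 2 := CharP.eq K hpc hc2
  subst hp2
  let k := AlgebraicClosure K
  let f : K →+* k := algebraMap K k
  let cs := CoxeterMatrix.F₄.toCoxeterSystem
  have hW : Finite CoxeterMatrix.F₄.Group := H493.PGF4.finW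
  have hN : NSys CoxeterMatrix.F₄ (TT chevF4 k) (nc hp k) := nsys_of_locFin hp cs hk 2
  obtain ⟨n, hn⟩ := exists_rp cs hN (TD.w cs d)
  obtain ⟨z, hz⟩ := H493.F4Lang.lang_ste m n
  obtain ⟨N, hNe⟩ := Int.eq_ofNat_of_zero_le hpos.le
  have hN0 : 0 < N := by
    have : (0 : ℤ) < (N : ℤ) := by rw [hNe] at hpos; exact hpos
    exact_mod_cast this
  set L := d.C.map Prod.fst with hL
  have hw : TD.w cs d = cs.wordProd L := rfl
  have h1 : ∀ x, rep cs hp.isCartan (TD.w cs d * cs.wordProd (L.map rv)) (Tt (2 ^ m) x) =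
      Tt (2 ^ m) (rep cs hp.isCartan (cs.wordProd (L.map rv) * TD.w cs d) x) := by
    intro x
    rw [hw, rep_mul_apply, wordProd_Tt, map_rv_rv, wordProd_Tt, rep_mul_apply]
  have h2 : TD.w cs d * cs.wordProd (L.map rv) * TD.w cs d = TD.w cs d * (cs.wordProd (L.map rv) * TD.w cs d) :=
    mul_assoc _ _ _
  obtain ⟨y, hy, hyF⟩ := exists_norm hk cs hn (m := m) (Y := Mh (2 ^ m) d.Y) (N := N) hN0 (fun x => by
    rw [Yw cs hd.1 hd3, hNe]; exact natCast_zsmul _ _) h1 h2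
  obtain ⟨u, hu⟩ := exists_of_tau hK f hz hyF
  obtain ⟨t, ht, htr, hI, ht1⟩ := hroot (k := k) cs hd.1 hd.2.1 hd.2.2.2 hr hr2 h3 hrN (sr 0)
    (isRoot_sr cs hp.isCartan 0)
  obtain ⟨x, hx⟩ := exists_of_tau hK f hz ((tau_iff cs hk hn ht).2 hI)
  have hy' : y⁻¹ * t * y ∈ TT chevF4 k := by
    have := (Subgroup.mem_normalizer_iff.1 hy.inv.mem_normalizer t).1 ht
    rwa [inv_inv] at this
  have key : y⁻¹ * t * y = t ^ 2 ^ (2 * m + 1) := by
    refine cX_inj hp hy' (pow_mem ht _) fun i => ?_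
    have e1 := cX_rp hp cs hk 2 hy hy' (sr i)
    have e2 := cX_sq cs (L := L) ht hI (sr i)
    have e3 : y * (y⁻¹ * t * y) * y⁻¹ = t := by group
    rw [e3] at e1
    exact (e1.symm.trans e2).trans (cX_pow hp ht _ _).symm
  refine ⟨x, u⁻¹, ?_, ?_⟩
  · refine orderOf_eq_prime ?_ ?_
    · apply eF_injective f
      rw [map_pow, map_one]
      have h1 : eF m f x = z * t * z⁻¹ := by rw [← hx]; group
      rw [h1, conj_pow, htr]; group
    · intro h
      rw [h, map_one, mul_one, inv_mul_cancel] at hx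
      rw [← hx, cX_one] at ht1
      exact ht1 rfl
  · apply eF_injective f
    have h3 : eF m f x = z * t * z⁻¹ := by rw [← hx]; group
    have h4 : eF m f u = z * y * z⁻¹ := by rw [← hu]; group
    rw [inv_inv, map_mul, map_mul, map_inv, map_pow, h3, h4, conj_pow, ← key]
    group

end Fin

end Cfsg.Agent.H99.FxTwF4
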