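import Mathlib
import Cfsg.Prelude.Def_CaseTheorems
import Cfsg.Agent.Classification.ThreePrimes

/-!
# Solvability of `⟨x, x^y⟩` for `x` of odd prime-power order and `y` a 2-element: the reduction

The condition `Good` passes to subgroups and quotients, and fails in a minimal simple group having an
element `x ≠ 1` of odd prime-power order all of whose proper overgroups lie in one proper subgroup.
-/

set_option autoImplicit false

namespace Cfsg.Agent.H99.SolvGen

open Cfsg

/-- The right-hand side of S4103. -/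
def Good (G : Type*) [Group G] : Prop :=
  ∀ x y : G, (∃ p k : ℕ, p.Prime ∧ p ≠ 2 ∧ orderOf x = p ^ k) → (∃ k : ℕ, orderOf y = 2 ^ k) →
    Group.IsSolvable (Subgroup.closure ({x, y * x * y⁻¹} : Set G))

theorem solvable_of_map {G K : Type*} [Group G] [Group K] {f : G →* K} {H : Subgroup G}
    {L : Subgroup K} (h : H.map f = L) (hH : Group.IsSolvable H) : Group.IsSolvable L := by
  subst h
  exact Group.isSolvable_of_surjective (f := f.subgroupMap H) (f.subgroupMap_surjective H)

theorem Good.subgroup {G : Type*} [Group G] (hG : Good G) (H : Subgroup G) : Good H := by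
  intro x y hx hy
  have h := hG (x : G) (y : G) (by simpa only [Subgroup.orderOf_coe] using hx)
    (by simpa only [Subgroup.orderOf_coe] using hy)
  have hmap : (Subgroup.closure ({x, y * x * y⁻¹} : Set H)).map H.subtype =
      Subgroup.closure ({(x : G), (y : G) * x * (y : G)⁻¹} : Set G) := by
    rw [MonoidHom.map_closure, Set.image_pair]
    simp
  let e := (Subgroup.closure ({x, y * x * y⁻¹} : Set H)).equivMapOfInjective H.subtype
    H.subtype_injective
  rw [← hmap] at h
  exact Group.isSolvable_of_surjective (f := e.symm.toMonoidHom) e.symm.surjective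

/-- Lifting a `p`-element along a surjection. -/
theorem exists_lift {G K : Type*} [Group G] [Finite G] [Group K] {f : G →* K}
    (hf : Function.Surjective f) {p k : ℕ} (hp : p.Prime) {x : K} (hx : orderOf x = p ^ k) :
    ∃ (g : G) (j : ℕ), f g = x ∧ orderOf g = p ^ j := by
  obtain ⟨g₀, rfl⟩ := hf x
  obtain ⟨j, m, hm, hjm⟩ := Nat.exists_eq_pow_mul_and_not_dvd (orderOf_pos g₀).ne' p hp.ne_one
  have hcop : Nat.Coprime m (orderOf (f g₀)) := by
    rw [hx]
    exact ((Nat.Prime.coprime_iff_not_dvd hp).2 hm).symm.pow_right k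
  obtain ⟨m', hm'⟩ := exists_pow_eq_self_of_coprime hcop
  have h1 : ((g₀ ^ m) ^ m') ^ p ^ j = 1 := by
    rw [← pow_mul, ← pow_mul, show m * (m' * p ^ j) = (p ^ j * m) * m' by ring, pow_mul, ← hjm,
      pow_orderOf_eq_one, one_pow]
  obtain ⟨i, -, hi⟩ := (Nat.dvd_prime_pow hp).1 (orderOf_dvd_of_pow_eq_one h1)
  refine ⟨(g₀ ^ m) ^ m', i, ?_, hi⟩
  rw [map_pow, map_pow, hm']

theorem Good.of_surjective {G K : Type*} [Group G] [Finite G] [Group K] (hG : Good G) {f : G →* K}
    (hf : Function.Surjective f) : Good K := by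
  rintro x y ⟨p, k, hp, hp2, hx⟩ ⟨l, hy⟩
  obtain ⟨a, i, rfl, ha⟩ := exists_lift hf hp hx
  obtain ⟨b, j, rfl, hb⟩ := exists_lift hf Nat.prime_two hy
  have h := hG a b ⟨p, i, hp, hp2, ha⟩ ⟨j, hb⟩
  refine solvable_of_map (f := f) ?_ h
  rw [MonoidHom.map_closure, Set.image_pair]
  simp

theorem Good.of_equiv {G K : Type*} [Group G] [Finite G] [Group K] (hG : Good G) (e : G ≃* K) :
    Good K :=
  hG.of_surjective (f := e.toMonoidHom) e.surjective

/-- `x ≠ 1` of odd prime-power order lies in at most one maximal subgroup (weak form). -/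
def HasWitness (G : Type*) [Group G] : Prop :=
  ∃ x : G, x ≠ 1 ∧ (∃ p k : ℕ, p.Prime ∧ p ≠ 2 ∧ orderOf x = p ^ k) ∧
    ∃ M : Subgroup G, M ≠ ⊤ ∧ ∀ H : Subgroup G, H ≠ ⊤ → Group.IsSolvable H → x ∈ H → H ≤ M

theorem HasWitness.of_equiv {G K : Type*} [Group G] [Group K] (h : HasWitness G) (e : G ≃* K) :
    HasWitness K := by
  obtain ⟨x, hx1, ⟨p, k, hp, hp2, hx⟩, M, hM, hMx⟩ := h
  refine ⟨e x, by simpa using hx1, ⟨p, k, hp, hp2, by rw [← hx]; exact MulEquiv.orderOf_eq e x⟩,
    M.map e.toMonoidHom, ?_, ?_⟩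
  · intro h
    apply hM
    rw [eq_top_iff]
    intro g _
    have h1 : e g ∈ M.map e.toMonoidHom := by rw [h]; trivial
    obtain ⟨g', hg', hgg⟩ := h1
    rwa [← e.injective hgg]
  · intro H hH hs hxH
    have h1 : H.comap e.toMonoidHom ≤ M := by
      apply hMx
      · intro h
        apply hH
        rw [eq_top_iff]
        intro g _
        have h2 : e.symm g ∈ H.comap e.toMonoidHom := by rw [h]; trivial
        simpa using h2
      · refine Group.isSolvable_of_isSolvable_injective
          (f := e.toMonoidHom.subgroupComap H) ?_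
        intro a b hab
        apply Subtype.ext
        apply e.injective
        exact congrArg Subtype.val hab
      · exact hxH
    intro g hg
    refine ⟨e.symm g, h1 ?_, by simp⟩
    simpa using hg

theorem not_good_of_witness {G : Type*} [Group G] [Finite G] (hG : IsMinimalSimple G)
    (h2 : Even (Nat.card G)) (hw : HasWitness G) : ¬ Good G := by
  intro hgood
  obtain ⟨x, hx1, hx, M, hM, hMx⟩ := hw
  have hsimp := hG.1
  have hns : ¬ Group.IsSolvable G := by
    intro h
    exact hG.2.1 ⟨⟨IsSimpleGroup.comm_iff_isSolvable.2 h⟩⟩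
  have hxM : x ∈ M := by
    have h1 : Subgroup.zpowers x ≠ ⊤ := by
      intro h
      apply hns
      refine Group.isSolvable_of_surjective (f := (Subgroup.zpowers x).subtype) ?_
      rw [← MonoidHom.range_eq_top, Subgroup.range_subtype, h]
    exact hMx _ h1 inferInstance (Subgroup.mem_zpowers x) (Subgroup.mem_zpowers x)
  -- every 2-element normalises `M`
  have key : ∀ y : G, (∃ k : ℕ, orderOf y = 2 ^ k) → y ∈ Subgroup.normalizer (M : Set G) := by
    intro y hy
    have h1 := hgood x y hx hy
    have hne : Subgroup.closure ({x, y * x * y⁻¹} : Set G) ≠ ⊤ := by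
      intro h
      apply hns
      refine Group.isSolvable_of_surjective
        (f := (Subgroup.closure ({x, y * x * y⁻¹} : Set G)).subtype) ?_
      rw [← MonoidHom.range_eq_top, Subgroup.range_subtype, h]
    have h3 : y * x * y⁻¹ ∈ M :=
      hMx _ hne h1 (Subgroup.subset_closure (by simp)) (Subgroup.subset_closure (by simp))
    -- the conjugate `y⁻¹ M y` contains `x`
    let M' : Subgroup G := M.map (MulAut.conj y⁻¹).toMonoidHom
    have hxM' : x ∈ M' := ⟨y * x * y⁻¹, h3, by simp [mul_assoc]⟩
    have hcard : Nat.card M' = Nat.card M :=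
      (Nat.card_congr (M.equivMapOfInjective _ (MulAut.conj y⁻¹).injective).toEquiv).symm
    have hM' : M' ≠ ⊤ := by
      intro h
      apply hM
      apply Subgroup.eq_top_of_card_eq
      rw [← hcard, h, Subgroup.card_top]
    have hle : M' ≤ M := hMx M' hM' (hG.2.2 M' hM') hxM'
    have heq : M' = M := Subgroup.eq_of_le_of_card_ge hle hcard.ge
    have h4 : ∀ n, n ∈ M → y⁻¹ * n * y ∈ M := by
      intro n hn
      rw [← heq]
      exact ⟨n, hn, by simp⟩
    have h5 : y⁻¹ ∈ Subgroup.normalizer (M : Set G) := by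
      apply Subgroup.mem_normalizer_fintype
      intro n hn
      rw [inv_inv]
      exact h4 n hn
    simpa using (Subgroup.normalizer (M : Set G)).inv_mem h5
  -- the 2-elements generate `G`
  let T : Subgroup G := Subgroup.closure {y : G | ∃ k : ℕ, orderOf y = 2 ^ k}
  have hTn : T.Normal := by
    constructor
    intro t ht g
    have h1 : T.map (MulAut.conj g).toMonoidHom ≤ T := by
      show (Subgroup.closure _).map _ ≤ _
      rw [MonoidHom.map_closure, Subgroup.closure_le]
      rintro _ ⟨y, ⟨k, hk⟩, rfl⟩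
      apply Subgroup.subset_closure
      refine ⟨k, ?_⟩
      rw [← hk]
      exact MulEquiv.orderOf_eq (MulAut.conj g) y
    exact h1 ⟨t, ht, rfl⟩
  have hTne : T ≠ ⊥ := by
    have : Fact (Nat.Prime 2) := ⟨Nat.prime_two⟩
    obtain ⟨t, ht⟩ := exists_prime_orderOf_dvd_card' (G := G) 2 h2.two_dvd
    intro h
    have h1 : t ∈ T := Subgroup.subset_closure ⟨1, by rw [ht, pow_one]⟩
    rw [h, Subgroup.mem_bot] at h1
    rw [h1, orderOf_one] at ht
    omega
  have hTtop : T = ⊤ := (hTn.eq_bot_or_eq_top).resolve_left hTne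
  have hN : Subgroup.normalizer (M : Set G) = ⊤ := by
    rw [eq_top_iff, ← hTtop]
    exact (Subgroup.closure_le _).2 key
  have hMn : M.Normal := Subgroup.normalizer_eq_top_iff.1 hN
  rcases hMn.eq_bot_or_eq_top with h | h
  · rw [h, Subgroup.mem_bot] at hxM
    exact hx1 hxM
  · exact hM h

/-- The reduction: it is enough to find a witness in every minimal simple group. -/
theorem isSolvable_of_good.{u} (hw : ∀ (S : Type u) [Group S] [Finite S], IsMinimalSimple S →
    Even (Nat.card S) ∧ HasWitness S) {G : Type u} [Group G] [Finite G] (hG : Good G) :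
    Group.IsSolvable G := by
  by_contra hns
  obtain ⟨H, N, hN, hms⟩ := Classification.ThreePrimes.exists_section hns
  obtain ⟨h1, h2⟩ := hw _ hms
  exact not_good_of_witness hms h1 h2
    ((hG.subgroup H).of_surjective (QuotientGroup.mk'_surjective N))

end Cfsg.Agent.H99.SolvGen
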