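import Mathlib
import Cfsg.Agent.H99.SolvGen
import Cfsg.Agent.ClassicalGeometry.PSL2Solvable
import Cfsg.Agent.ClassicalGeometry.NonsplitTorus
import Cfsg.Agent.S0799

/-!
# Witnesses in `PSL(2, q)`
-/

set_option autoImplicit false

namespace Cfsg.Agent.H99.SolvGenPSL

open Cfsg Cfsg.Agent.H99.SolvGen Cfsg.Agent.ClassicalGeometry.PSL2Solvable
  Cfsg.Agent.ClassicalGeometry.PSL2Basic

section Borel

variable {F : Type*} [Field F]

/-- The parametrisation of the Borel subgroup. -/
noncomputable def borelEquiv : borel F ≃ Fˣ × F where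
  toFun c := (Units.mk0 ((c : Matrix.SpecialLinearGroup (Fin 2) F) 0 0) (by
    intro h
    have h1 := (c : Matrix.SpecialLinearGroup (Fin 2) F).2
    rw [Matrix.det_fin_two] at h1
    have h2 := mem_borel_iff.1 c.2
    change (c : Matrix.SpecialLinearGroup (Fin 2) F) 0 0 *
      (c : Matrix.SpecialLinearGroup (Fin 2) F) 1 1 -
      (c : Matrix.SpecialLinearGroup (Fin 2) F) 0 1 *
      (c : Matrix.SpecialLinearGroup (Fin 2) F) 1 0 = 1 at h1
    rw [h, h2] at h1
    simp at h1), (c : Matrix.SpecialLinearGroup (Fin 2) F) 0 1)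
  invFun t := ⟨⟨!![(t.1 : F), t.2; 0, ((t.1⁻¹ : Fˣ) : F)], by
    rw [Matrix.det_fin_two_of]; simp⟩, mem_borel_iff.2 rfl⟩
  left_inv := by
    intro c
    apply Subtype.ext
    apply Subtype.ext
    have h1 := (c : Matrix.SpecialLinearGroup (Fin 2) F).2
    rw [Matrix.det_fin_two] at h1
    have h2 := mem_borel_iff.1 c.2
    change (c : Matrix.SpecialLinearGroup (Fin 2) F) 0 0 *
      (c : Matrix.SpecialLinearGroup (Fin 2) F) 1 1 -
      (c : Matrix.SpecialLinearGroup (Fin 2) F) 0 1 *
      (c : Matrix.SpecialLinearGroup (Fin 2) F) 1 0 = 1 at h1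
    rw [h2, mul_zero, sub_zero] at h1
    ext i j
    fin_cases i <;> fin_cases j
    · rfl
    · rfl
    · exact h2.symm
    · exact inv_eq_of_mul_eq_one_right h1 |>.trans rfl
  right_inv := by
    rintro ⟨a, b⟩
    ext
    · rfl
    · rfl

theorem card_borel [Fintype F] :
    Nat.card (borel F) = (Fintype.card F - 1) * Fintype.card F := by
  classical
  rw [Nat.card_congr borelEquiv, Nat.card_prod, Nat.card_eq_fintype_card, Fintype.card_units,
    Nat.card_eq_fintype_card]

end Borel

section General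

variable {G : Type*} [Group G]

theorem le_normalizer_zpowers [Finite G] {x : G} {H : Subgroup G}
    (h : ∀ g ∈ H, g * x * g⁻¹ ∈ Subgroup.zpowers x) :
    H ≤ Subgroup.normalizer (Subgroup.zpowers x : Set G) := by
  intro g hg
  apply Subgroup.mem_normalizer_fintype
  intro n hn
  obtain ⟨k, rfl⟩ := Subgroup.mem_zpowers_iff.1 hn
  rw [← conj_zpow]
  exact (Subgroup.zpowers x).zpow_mem (h g hg) k

/-- The normaliser of `⟨x⟩` is proper in a non-abelian simple group. -/
theorem normalizer_ne_top (hs : IsSimpleGroup G) (hc : ¬ IsMulCommutative G) {x : G} (hx : x ≠ 1) :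
    Subgroup.normalizer (Subgroup.zpowers x : Set G) ≠ ⊤ := by
  intro h
  have hn : (Subgroup.zpowers x).Normal := Subgroup.normalizer_eq_top_iff.1 h
  rcases hn.eq_bot_or_eq_top with h1 | h1
  · exact hx (Subgroup.zpowers_eq_bot.1 h1)
  · apply hc
    have : IsCyclic G := ⟨x, fun g => by
      have : g ∈ Subgroup.zpowers x := by rw [h1]; trivial
      exact this⟩
    exact this.isMulCommutative

theorem witness_of_normalizer [Finite G] (hG : IsMinimalSimple G) {x : G} (hx1 : x ≠ 1)
    (hx : ∃ p k : ℕ, p.Prime ∧ p ≠ 2 ∧ orderOf x = p ^ k)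
    (h : ∀ H : Subgroup G, H ≠ ⊤ → Group.IsSolvable H → x ∈ H → ∀ g ∈ H,
      g * x * g⁻¹ ∈ Subgroup.zpowers x) : HasWitness G :=
  ⟨x, hx1, hx, _, normalizer_ne_top hG.1 hG.2.1 hx1,
    fun H h1 h2 h3 => le_normalizer_zpowers (h H h1 h2 h3)⟩

/-- A solvable subgroup of a simple group whose order is `p · m`, with `p ∤ m` and
`m < p (p+1)`: an element of order `p` is normalised. -/
theorem prime_case [Finite G] (hs : IsSimpleGroup G) {p m : ℕ} (hp : p.Prime)
    (hcard : Nat.card G = p * m) (hpm : ¬ p ∣ m) (hm : m < p * (p + 1)) {x : G}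
    (hx : orderOf x = p) (H : Subgroup G) (hH : H ≠ ⊤) (hxH : x ∈ H) :
    ∀ g ∈ H, g * x * g⁻¹ ∈ Subgroup.zpowers x := by
  classical
  have hpf : Fact p.Prime := ⟨hp⟩
  let y : H := ⟨x, hxH⟩
  have hy : orderOf y = p := by rw [← hx]; exact Subgroup.orderOf_mk x hxH
  have hyP : IsPGroup p (Subgroup.zpowers y) :=
    IsPGroup.of_card (n := 1) (by rw [Nat.card_zpowers, hy, pow_one])
  obtain ⟨Q, hQ⟩ := hyP.exists_le_sylow
  obtain ⟨k, hk⟩ := IsPGroup.iff_card.1 Q.isPGroup'
  have hQG : Nat.card Q ∣ p * m := by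
    rw [← hcard]
    exact (Subgroup.card_subgroup_dvd_card (Q : Subgroup H)).trans
      (Subgroup.card_subgroup_dvd_card H)
  have hk1 : k ≤ 1 := by
    by_contra hcon
    have h1 : p ^ 2 ∣ p * m := by
      refine (pow_dvd_pow p (show 2 ≤ k by omega)).trans ?_
      rw [← hk]
      exact hQG
    rw [pow_two] at h1
    exact hpm ((Nat.mul_dvd_mul_iff_left hp.pos).1 h1)
  have hQz : (Q : Subgroup H) = Subgroup.zpowers y := by
    symm
    apply Subgroup.eq_of_le_of_card_ge hQ
    rw [Nat.card_zpowers, hy]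
    show Nat.card (Q : Subgroup H) ≤ p
    have : Nat.card (Q : Subgroup H) = p ^ k := hk
    rw [this]
    calc p ^ k ≤ p ^ 1 := Nat.pow_le_pow_right hp.pos hk1
      _ = p := pow_one p
  by_cases h1 : Nat.card (Sylow p H) = 1
  · have hQn : (Q : Subgroup H).Normal := by
      have : Subsingleton (Sylow p H) := (Nat.card_eq_one_iff_unique.1 h1).1
      exact Sylow.normal_of_subsingleton Q
    intro g hg
    have h2 : (⟨g, hg⟩ : H) * y * (⟨g, hg⟩ : H)⁻¹ ∈ (Q : Subgroup H) := by
      apply hQn.conj_mem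
      rw [hQz]
      exact Subgroup.mem_zpowers y
    rw [hQz] at h2
    obtain ⟨j, hj⟩ := Subgroup.mem_zpowers_iff.1 h2
    exact Subgroup.mem_zpowers_iff.2 ⟨j, by simpa using congrArg Subtype.val hj⟩
  · exfalso
    have h2 := card_sylow_modEq_one p H
    have h3 : p + 1 ≤ Nat.card (Sylow p H) := by
      have hpos : 0 < Nat.card (Sylow p H) := Nat.card_pos
      have h4 : p ∣ Nat.card (Sylow p H) - 1 := (Nat.modEq_iff_dvd' (by omega)).1 h2.symm
      have h5 := Nat.le_of_dvd (by omega) h4
      omega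
    have h4 : Nat.card (Sylow p H) * p ≤ Nat.card H := by
      rw [Sylow.card_eq_index_normalizer Q, mul_comm]
      have h5 : Nat.card (Q : Subgroup H) = p := by
        rw [hQz, Nat.card_zpowers, hy]
      have h6 : p ≤ Nat.card (Subgroup.normalizer ((Q : Subgroup H) : Set H)) := by
        calc p = Nat.card (Q : Subgroup H) := h5.symm
          _ ≤ _ := Subgroup.card_le_of_le Subgroup.le_normalizer
      calc p * _ ≤ _ := Nat.mul_le_mul_right _ h6
        _ = _ := Subgroup.card_mul_index _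
    -- the index of `H` is less than `p`
    have h5 : H.index < p := by
      have h6 := Subgroup.card_mul_index H
      rw [hcard] at h6
      by_contra hcon
      push Not at hcon
      have h7 : (p + 1) * p * p ≤ p * m := by
        rw [← h6]
        exact Nat.mul_le_mul ((Nat.mul_le_mul_right p h3).trans h4) hcon
      have h8 : (p + 1) * p ≤ m := by
        have : p * ((p + 1) * p) ≤ p * m := by
          calc p * ((p + 1) * p) = (p + 1) * p * p := by ring
            _ ≤ _ := h7
        exact Nat.le_of_mul_le_mul_left this hp.pos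
      rw [mul_comm] at h8
      omega
    let f := MulAction.toPermHom G (G ⧸ H)
    have hker : f.ker = ⊤ := by
      rcases (inferInstance : f.ker.Normal).eq_bot_or_eq_top with h | h
      · exfalso
        have hinj : Function.Injective f := (MonoidHom.ker_eq_bot_iff f).1 h
        have h6 : orderOf (f x) = p := by rw [← hx]; exact orderOf_injective f hinj x
        have h7 : p ∣ Nat.card (Equiv.Perm (G ⧸ H)) := by
          rw [← h6]; exact orderOf_dvd_natCard (f x)
        rw [Nat.card_perm] at h7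
        have h8 : Nat.card (G ⧸ H) < p := h5
        exact absurd ((Nat.Prime.dvd_factorial hp).1 h7) (by omega)
      · exact h
    apply hH
    rw [eq_top_iff, ← hker]
    intro g hg
    have h6 : f g ((1 : G) : G ⧸ H) = ((1 : G) : G ⧸ H) := by
      rw [MonoidHom.mem_ker] at hg
      rw [hg]; rfl
    have h7 : ((g * 1 : G) : G ⧸ H) = ((1 : G) : G ⧸ H) := h6
    rw [mul_one] at h7
    have h8 := QuotientGroup.eq.1 h7
    simpa using H.inv_mem h8

end General

section Dickson

variable {F : Type*} [Field F] [Fintype F]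

theorem dihedral_conj {k : ℕ} (x g : DihedralGroup k) (hx : 2 < orderOf x) :
    g * x * g⁻¹ = x ∨ g * x * g⁻¹ = x⁻¹ := by
  rcases x with i | i
  · rcases g with j | j
    · left
      rw [DihedralGroup.inv_r, DihedralGroup.r_mul_r, DihedralGroup.r_mul_r]
      congr 1
      ring
    · right
      rw [DihedralGroup.inv_sr, DihedralGroup.sr_mul_r, DihedralGroup.sr_mul_sr,
        DihedralGroup.inv_r]
      congr 1
      ring
  · rw [DihedralGroup.orderOf_sr] at hx
    omega

/-- In `PSL(2, q)`: a proper solvable subgroup containing an element `x` of odd order at least 5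
prime to `q (q - 1)` normalises `⟨x⟩`. -/
theorem conj_mem_zpowers
    (hsub : ∀ k m : ℕ, 1 < k → k ^ m = Fintype.card F → k = Fintype.card F ∨ k = 2 ∨ k = 3)
    {x : Matrix.ProjectiveSpecialLinearGroup (Fin 2) F} (hodd : Odd (orderOf x))
    (h5 : 5 ≤ orderOf x)
    (hcop : Nat.Coprime (orderOf x) (Fintype.card F * (Fintype.card F - 1)))
    (H : Subgroup (Matrix.ProjectiveSpecialLinearGroup (Fin 2) F)) (hH : H ≠ ⊤)
    (hs : Group.IsSolvable H) (hxH : x ∈ H) :
    ∀ g ∈ H, g * x * g⁻¹ ∈ Subgroup.zpowers x := by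
  have hcard : Nat.card H ≠ Nat.card (Matrix.ProjectiveSpecialLinearGroup (Fin 2) F) := by
    intro h
    exact hH (Subgroup.eq_top_of_card_eq H h)
  have hcard' : Nat.card H ≤ Nat.card (Matrix.ProjectiveSpecialLinearGroup (Fin 2) F) :=
    Subgroup.card_le_card_group H
  have hlt := lt_of_le_of_ne hcard' hcard
  have hxd : orderOf x ∣ Nat.card H := by
    rw [← Subgroup.orderOf_mk x hxH]
    exact orderOf_dvd_natCard _
  -- an odd number at least 5 does not divide ...
  have h12 : ¬ orderOf x ∣ 24 := by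
    intro h
    have h1 : Nat.Coprime (orderOf x) 8 := by
      have : Nat.Coprime (orderOf x) 2 := Nat.coprime_two_right.2 hodd
      exact this.pow_right 3
    have h2 : orderOf x ∣ 3 := h1.dvd_of_dvd_mul_left (by simpa using h)
    have := Nat.le_of_dvd (by norm_num) h2
    omega
  obtain ⟨p, hchar⟩ := CharP.exists F
  obtain ⟨n, hp, hn⟩ := FiniteField.card F p
  have hpf : Fact p.Prime := ⟨hp⟩
  rcases Cfsg.Agent.S0799.result (F := F) rfl p H with
    ⟨k, -, ⟨hcyc, -⟩ | ⟨⟨e⟩⟩⟩ | ⟨P, K, hK, ⟨e⟩⟩ | ⟨⟨e⟩⟩ | ⟨⟨e⟩⟩ | ⟨⟨e⟩⟩ |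
      ⟨K, hfield, hfin, m, hKm, ⟨⟨e⟩⟩ | ⟨⟨e⟩⟩⟩
  · intro g hg
    have hc := hcyc.isMulCommutative
    have h1 := hc.is_comm.comm (⟨g, hg⟩ : H) ⟨x, hxH⟩
    have h2 : g * x = x * g := congrArg Subtype.val h1
    rw [h2, mul_inv_cancel_right]
    exact Subgroup.mem_zpowers x
  · intro g hg
    have h1 : orderOf (e ⟨x, hxH⟩) = orderOf x := by
      rw [MulEquiv.orderOf_eq, Subgroup.orderOf_mk]
    rcases dihedral_conj (e ⟨x, hxH⟩) (e ⟨g, hg⟩) (by omega) with h | h
    · rw [← map_mul, ← map_inv, ← map_mul] at h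
      have h2 : g * x * g⁻¹ = x := congrArg Subtype.val (e.injective h)
      rw [h2]
      exact Subgroup.mem_zpowers x
    · rw [← map_mul, ← map_inv, ← map_mul, ← map_inv] at h
      have h2 : g * x * g⁻¹ = x⁻¹ := congrArg Subtype.val (e.injective h)
      rw [h2]
      exact (Subgroup.zpowers x).inv_mem (Subgroup.mem_zpowers x)
  · exfalso
    obtain ⟨g, hg⟩ := exists_le_map_borel p P
    have h1 : Nat.card K ∣ Fintype.card F * (Fintype.card F - 1) := by
      refine (Subgroup.card_dvd_of_le (hK.trans hg)).trans ?_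
      refine (Subgroup.card_map_dvd _ _).trans ?_
      refine (Subgroup.card_map_dvd _ _).trans ?_
      rw [card_borel, mul_comm]
    have h2 : orderOf x ∣ 1 := by
      rw [← Nat.isCoprime_iff_coprime] at hcop
      have h3 : orderOf x ∣ Fintype.card F * (Fintype.card F - 1) := by
        rw [Nat.card_congr e.toEquiv] at hxd
        exact hxd.trans h1
      have h4 := Nat.isCoprime_iff_coprime.1 hcop
      rw [← h4.gcd_eq_one]
      exact Nat.dvd_gcd dvd_rfl h3
    have := Nat.le_of_dvd one_pos h2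
    omega
  · exfalso
    apply h12
    rw [Nat.card_congr e.toEquiv] at hxd
    have h1 : Nat.card (alternatingGroup (Fin 4)) = 12 := by
      rw [Nat.card_eq_fintype_card]
      decide +kernel
    rw [h1] at hxd
    exact hxd.trans (by norm_num)
  · exfalso
    apply h12
    rw [Nat.card_congr e.toEquiv, Nat.card_eq_fintype_card, Fintype.card_perm,
      Fintype.card_fin] at hxd
    exact hxd
  · exfalso
    exact not_isSolvable_alternating_five
      (Group.isSolvable_of_surjective (f := e.toMonoidHom) e.surjective)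
  · exfalso
    rcases hsub _ m Fintype.one_lt_card hKm with h2 | h2 | h2
    · apply hcard
      rw [Nat.card_congr e.toEquiv, card_PSL2_div, card_PSL2_div, h2]
    · apply h12
      rw [Nat.card_congr e.toEquiv, card_PSL2_div, h2] at hxd
      exact hxd.trans (by norm_num)
    · apply h12
      rw [Nat.card_congr e.toEquiv, card_PSL2_div, h2] at hxd
      exact hxd.trans (by norm_num)
  · exfalso
    rcases hsub _ m Fintype.one_lt_card hKm with h2 | h2 | h2
    · have h1 : Nat.card (Matrix.ProjectiveSpecialLinearGroup (Fin 2) F) ≤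
          Fintype.card F * (Fintype.card F ^ 2 - 1) := by
        rw [card_PSL2_div]
        exact Nat.div_le_self _ _
      rw [Nat.card_congr e.toEquiv, card_PGL2, h2] at hlt
      omega
    · apply h12
      rw [Nat.card_congr e.toEquiv, card_PGL2, h2] at hxd
      exact hxd.trans (by norm_num)
    · apply h12
      rw [Nat.card_congr e.toEquiv, card_PGL2, h2] at hxd
      exact hxd.trans (by norm_num)

variable (F) in
/-- `PSL(2, q)` has elements of every odd order dividing `q + 1`. -/
theorem exists_orderOf {N : ℕ} (hN : Odd N) (hdvd : N ∣ Fintype.card F + 1) :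
    ∃ x : Matrix.ProjectiveSpecialLinearGroup (Fin 2) F, orderOf x = N := by
  obtain ⟨a, -, ha, -⟩ := Cfsg.Agent.ClassicalGeometry.NonsplitTorus.exists_torus_TI F
  obtain ⟨k, hk⟩ := hdvd
  have hk0 : k ≠ 0 := by
    rintro rfl
    omega
  have hb : orderOf (a ^ k) = N := by
    rw [orderOf_pow_of_dvd hk0 (by rw [ha, hk]; exact dvd_mul_left k N), ha, hk,
      Nat.mul_div_cancel _ (Nat.pos_of_ne_zero hk0)]
  let π := QuotientGroup.mk' (Subgroup.center (Matrix.SpecialLinearGroup (Fin 2) F))
  refine ⟨π (a ^ k), ?_⟩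
  apply Nat.dvd_antisymm
  · rw [← hb]
    exact orderOf_map_dvd π _
  · have h1 : π ((a ^ k) ^ orderOf (π (a ^ k))) = 1 := by rw [map_pow, pow_orderOf_eq_one]
    have h2 : (a ^ k) ^ orderOf (π (a ^ k)) ∈
        Subgroup.center (Matrix.SpecialLinearGroup (Fin 2) F) :=
      (QuotientGroup.eq_one_iff _).1 h1
    have h3 : ((a ^ k) ^ orderOf (π (a ^ k))) ^ 2 = 1 := by
      rcases mem_center_SL2_iff.1 h2 with h | h
      · rw [h, one_pow]
      · rw [h]; simp
    rw [← pow_mul] at h3
    have h4 := orderOf_dvd_of_pow_eq_one h3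
    rw [hb] at h4
    exact (Nat.coprime_two_right.2 hN).dvd_of_dvd_mul_right h4

variable (F) in
/-- The witness from an odd prime power `N ≥ 5` dividing `q + 1`. -/
theorem witness_of_dvd (hG : IsMinimalSimple (Matrix.ProjectiveSpecialLinearGroup (Fin 2) F))
    (hsub : ∀ k m : ℕ, 1 < k → k ^ m = Fintype.card F → k = Fintype.card F ∨ k = 2 ∨ k = 3)
    {r k : ℕ} (hr : r.Prime) (hr2 : r ≠ 2) (h5 : 5 ≤ r ^ k) (hdvd : r ^ k ∣ Fintype.card F + 1) :
    HasWitness (Matrix.ProjectiveSpecialLinearGroup (Fin 2) F) := by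
  have hodd : Odd (r ^ k) := (hr.odd_of_ne_two hr2).pow
  obtain ⟨x, hx⟩ := exists_orderOf F hodd hdvd
  have hcop : Nat.Coprime (r ^ k) (Fintype.card F * (Fintype.card F - 1)) := by
    have hq : 1 < Fintype.card F := Fintype.one_lt_card
    apply Nat.Coprime.mul_right
    · apply Nat.Coprime.coprime_dvd_left hdvd
      simp
    · have h1 : Nat.Coprime r (Fintype.card F - 1) := by
        rw [Nat.Prime.coprime_iff_not_dvd hr]
        intro h
        have hk : k ≠ 0 := by
          rintro rfl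
          rw [pow_zero] at h5
          omega
        have h2 : r ∣ Fintype.card F + 1 := (dvd_pow_self r hk).trans hdvd
        have h3 : r ∣ 2 := by
          have := Nat.dvd_sub h2 h
          rwa [show Fintype.card F + 1 - (Fintype.card F - 1) = 2 by omega] at this
        exact hr2 ((Nat.prime_dvd_prime_iff_eq hr Nat.prime_two).1 h3)
      exact h1.pow_left k
  refine witness_of_normalizer hG (x := x) ?_ ⟨r, k, hr, hr2, hx⟩ ?_
  · rintro rfl
    rw [orderOf_one] at hx
    omega
  · intro H h1 h2 h3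
    exact conj_mem_zpowers hsub (by rw [hx]; exact hodd) (by rw [hx]; exact h5)
      (by rw [hx]; exact hcop) H h1 h2 h3

variable (F) in
/-- Fields of prime order at least 5. -/
theorem witness_prime (hG : IsMinimalSimple (Matrix.ProjectiveSpecialLinearGroup (Fin 2) F))
    (hp : (Fintype.card F).Prime) (h5 : 5 ≤ Fintype.card F) :
    HasWitness (Matrix.ProjectiveSpecialLinearGroup (Fin 2) F) := by
  set p := Fintype.card F with hpdef
  have hodd : Odd p := hp.odd_of_ne_two (by omega)
  have hc := card_PSL2_odd (F := F) hodd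
  rw [← hpdef] at hc
  obtain ⟨j, hj⟩ := hodd
  have hcard : Nat.card (Matrix.ProjectiveSpecialLinearGroup (Fin 2) F) =
      p * (2 * j * (j + 1)) := by
    have h1 : p ^ 2 - 1 = 2 * (2 * j * (j + 1)) := by
      rw [hj]
      have : (2 * j + 1) ^ 2 = 2 * (2 * j * (j + 1)) + 1 := by ring
      omega
    rw [h1] at hc
    have : Nat.card (Matrix.ProjectiveSpecialLinearGroup (Fin 2) F) * 2 =
      (p * (2 * j * (j + 1))) * 2 := by rw [hc]; ring
    omega
  have hpf : Fact p.Prime := ⟨hp⟩
  obtain ⟨x, hx⟩ := exists_prime_orderOf_dvd_card'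
    (G := Matrix.ProjectiveSpecialLinearGroup (Fin 2) F) p (by rw [hcard]; exact dvd_mul_right _ _)
  refine witness_of_normalizer hG (x := x) ?_ ⟨p, 1, hp, by omega, by rw [hx, pow_one]⟩ ?_
  · rintro rfl
    rw [orderOf_one] at hx
    omega
  · intro H h1 _ h3
    refine prime_case hG.1 hp hcard ?_ ?_ hx H h1 h3
    · intro h
      rcases (Nat.Prime.dvd_mul hp).1 h with h | h
      · rcases (Nat.Prime.dvd_mul hp).1 h with h | h
        · have := Nat.le_of_dvd (by norm_num) h
          omega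
        · have := Nat.le_of_dvd (by omega) h
          omega
      · have := Nat.le_of_dvd (by omega) h
        omega
    · rw [hj]
      nlinarith

theorem exists_pow_dvd {q : ℕ} (hq : 5 ≤ q) (ho : Odd q) : ∃ r k : ℕ, r.Prime ∧ r ≠ 2 ∧
    5 ≤ r ^ k ∧ r ^ k ∣ q := by
  by_cases h : ∃ r : ℕ, r.Prime ∧ r ∣ q ∧ 5 ≤ r
  · obtain ⟨r, hr, hrq, h5⟩ := h
    exact ⟨r, 1, hr, by omega, by rwa [pow_one], by rwa [pow_one]⟩
  · push Not at h
    have h3 : ∀ {d : ℕ}, d.Prime → d ∣ q → d = 3 := by
      intro d hd hdq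
      have h4 := h d hd hdq
      have h2 : d ≠ 2 := by
        rintro rfl
        exact (Nat.not_even_iff_odd.2 ho) (even_iff_two_dvd.2 hdq)
      have h2' := hd.two_le
      have hd4 : d ≠ 4 := by
        rintro rfl
        exact absurd hd (by norm_num)
      omega
    have h6 := Nat.eq_prime_pow_of_unique_prime_dvd (by omega) h3
    exact ⟨3, _, Nat.prime_three, by norm_num, by rw [← h6]; exact hq, by rw [← h6]⟩

theorem sub_of_prime_pow {p r k m : ℕ} (hp : p.Prime) (hr : r.Prime) (hk : 1 < k)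
    (h : k ^ m = p ^ r) : k = p ^ r ∨ k = p := by
  have hm0 : m ≠ 0 := by
    rintro rfl
    rw [pow_zero] at h
    exact absurd h.symm (Nat.one_lt_pow hr.ne_zero hp.one_lt).ne'
  obtain ⟨j, -, hj⟩ := (Nat.dvd_prime_pow hp).1 ((dvd_pow_self k hm0).trans h.dvd)
  subst hj
  rw [← pow_mul] at h
  have h1 := Nat.pow_right_injective hp.two_le h
  rcases (Nat.dvd_prime hr).1 (Dvd.intro m h1) with h2 | h2
  · right; rw [h2, pow_one]
  · left; rw [h2]

variable (F) in
theorem witness_two (hG : IsMinimalSimple (Matrix.ProjectiveSpecialLinearGroup (Fin 2) F))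
    {p : ℕ} (hp : p.Prime) (hF : Fintype.card F = 2 ^ p) :
    HasWitness (Matrix.ProjectiveSpecialLinearGroup (Fin 2) F) := by
  have h4 : 4 ≤ Fintype.card F := by
    rw [hF]
    calc 4 = 2 ^ 2 := by norm_num
      _ ≤ 2 ^ p := Nat.pow_le_pow_right (by norm_num) hp.two_le
  have ho : Odd (Fintype.card F + 1) := by
    rw [hF]
    exact (Nat.even_pow.2 ⟨even_two, hp.ne_zero⟩).add_one
  obtain ⟨r, k, hr, hr2, h5, hdvd⟩ := exists_pow_dvd (q := Fintype.card F + 1) (by omega) ho
  refine witness_of_dvd F hG ?_ hr hr2 h5 hdvd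
  intro k m hk hkm
  rw [hF] at hkm ⊢
  rcases sub_of_prime_pow Nat.prime_two hp hk hkm with h | h
  · exact Or.inl h
  · exact Or.inr (Or.inl h)

variable (F) in
theorem witness_three (hG : IsMinimalSimple (Matrix.ProjectiveSpecialLinearGroup (Fin 2) F))
    {p : ℕ} (hp : p.Prime) (hp2 : p ≠ 2) (hF : Fintype.card F = 3 ^ p) :
    HasWitness (Matrix.ProjectiveSpecialLinearGroup (Fin 2) F) := by
  obtain ⟨j, hj⟩ := hp.odd_of_ne_two hp2
  have hj1 : 1 ≤ j := by
    have := hp.two_le
    omega
  -- `3 ^ p + 1 = 4 m` with `m` odd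
  have h8 : 3 ^ p % 8 = 3 := by
    rw [hj, pow_succ, pow_mul, Nat.mul_mod, Nat.pow_mod]
    norm_num
  have hbig : 27 ≤ 3 ^ p := by
    calc 27 = 3 ^ 3 := by norm_num
      _ ≤ 3 ^ p := Nat.pow_le_pow_right (by norm_num) (by omega)
  obtain ⟨m, hm⟩ : ∃ m, 3 ^ p + 1 = 4 * m := ⟨(3 ^ p + 1) / 4, by omega⟩
  have hmo : Odd m := by
    rw [Nat.odd_iff]
    omega
  obtain ⟨r, k, hr, hr2, h5, hdvd⟩ := exists_pow_dvd (q := m) (by omega) hmo
  refine witness_of_dvd F hG ?_ hr hr2 h5 ?_
  · intro k m hk hkm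
    rw [hF] at hkm ⊢
    rcases sub_of_prime_pow Nat.prime_three hp hk hkm with h | h
    · exact Or.inl h
    · exact Or.inr (Or.inr h)
  · rw [hF, hm]
    exact hdvd.trans (dvd_mul_left m 4)

end Dickson

end Cfsg.Agent.H99.SolvGenPSL
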