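import Mathlib
import Cfsg.Agent.H99.SolvGen
import Cfsg.Agent.LieExceptional.SuzukiHyp
import Cfsg.Agent.Lib.SolvableMinNormal

/-!
# Witnesses in the Suzuki groups
-/

set_option autoImplicit false

namespace Cfsg.Agent.H99.SolvGenSz

open Cfsg Cfsg.Agent.H99.SolvGen MulAction

theorem smul_eq_of_sq {G Ω : Type*} [Group G] [MulAction G Ω] {g : G} (hg : Odd (orderOf g)) {a : Ω} (h : g • g • a = a) : g • a = a := by
  obtain ⟨k, hk⟩ := hg
  have h1 : ∀ n : ℕ, (g ^ (2 * n)) • a = a := by
    intro n
    induction n with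
    | zero => simp
    | succ n ih =>
      rw [show 2 * (n + 1) = 2 * n + 2 by ring, pow_add, mul_smul, pow_two, mul_smul, h, ih]
  have h2 : g ^ (2 * k + 1) = 1 := by rw [← hk, pow_orderOf_eq_one]
  have h3 : (g ^ (2 * k + 1)) • a = a := by rw [h2, one_smul]
  rw [pow_succ', mul_smul, h1] at h3
  exact h3

variable {G Ω : Type*} [Group G] [MulAction G Ω] [Finite Ω]

/-- An element of odd order permuting at most two points fixes each of them. -/
theorem smul_eq_of_mem {g : G} (hg : Odd (orderOf g)) {W : Set Ω} (hW : Nat.card W ≤ 2)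
    (h : ∀ a ∈ W, g • a ∈ W) {a : Ω} (ha : a ∈ W) : g • a = a := by
  apply smul_eq_of_sq hg
  by_contra hne
  have h1 := h a ha
  have h2 := h _ h1
  have h3 : g • a ≠ a := fun h => hne (by rw [h, h])
  have h4 : g • g • a ≠ g • a := fun h => h3 (smul_left_cancel g h)
  have h5 : ({a, g • a, g • g • a} : Set Ω) ⊆ W := by
    rintro _ (rfl | rfl | rfl)
    · exact ha
    · exact h1
    · exact h2
  have h6 : ({a, g • a, g • g • a} : Set Ω).ncard = 3 := by
    rw [Set.ncard_eq_three]
    exact ⟨a, g • a, g • g • a, h3.symm, Ne.symm hne, h4.symm, rfl⟩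
  have h7 := Set.ncard_le_ncard h5 (Set.toFinite _)
  rw [h6] at h7
  rw [Nat.card_coe_set_eq] at hW
  omega

theorem witness_of_hyp [Finite G] {q : ℕ} (H : Cfsg.Agent.LieExceptional.SuzukiTori.Hyp G Ω q)
    (hG : IsMinimalSimple G) : HasWitness G := by
  have h8 := H.eight_le
  have hsimp := hG.1
  obtain ⟨r, hr, hrq⟩ := Nat.exists_prime_and_dvd (n := q ^ 2 + 1) (by nlinarith)
  obtain ⟨h5, hrn⟩ := H.prime_dvd_facts hr hrq
  have hrf : Fact r.Prime := ⟨hr⟩
  obtain ⟨x, hx⟩ := exists_prime_orderOf_dvd_card' (G := G) r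
    (by rw [H.card_group]; exact hrq.trans (dvd_mul_left _ _))
  have hx1 : x ≠ 1 := by
    rintro rfl
    rw [orderOf_one] at hx
    omega
  have hodd : Odd (orderOf x) := by rw [hx]; exact hr.odd_of_ne_two (by omega)
  have hfree : x ∈ Cfsg.Agent.LieExceptional.SuzukiTori.Hyp.free G Ω := by
    have h1 := Cfsg.Agent.LieExceptional.SuzukiTori.card_modEq_fixedBy (Ω := Ω) hr
      (h := x) (by rw [← hx, pow_orderOf_eq_one])
    have h2 := H.three x hx1
    rw [H.card_set] at h1
    have h3 : r ∣ Nat.card (fixedBy Ω x) := (Nat.ModEq.dvd_iff h1 dvd_rfl).1 hrq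
    show Nat.card (fixedBy Ω x) = 0
    by_contra h0
    have := Nat.le_of_dvd (Nat.pos_of_ne_zero h0) h3
    omega
  have hfree' := Cfsg.Agent.LieExceptional.SuzukiTori.Hyp.mem_free_iff.1 hfree
  refine ⟨x, hx1, ⟨r, 1, hr, by omega, by rw [hx, pow_one]⟩,
    Subgroup.normalizer ((Subgroup.centralizer ({x} : Set G) : Subgroup G) : Set G), ?_, ?_⟩
  · intro h
    have hn : (Subgroup.centralizer ({x} : Set G)).Normal := Subgroup.normalizer_eq_top_iff.1 h
    have hxC : x ∈ Subgroup.centralizer ({x} : Set G) :=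
      Subgroup.mem_centralizer_singleton_iff.2 rfl
    rcases hn.eq_bot_or_eq_top with h1 | h1
    · rw [h1, Subgroup.mem_bot] at hxC
      exact hx1 hxC
    · apply hG.2.1
      refine ⟨⟨fun a b => H.comm_of_free hfree a ?_ b ?_⟩⟩
      · rw [h1]; trivial
      · rw [h1]; trivial
  · intro L hL hs hxL
    have hLn : Nontrivial L := ⟨⟨x, hxL⟩, 1, fun h => hx1 (congrArg Subtype.val h)⟩
    obtain ⟨p, hp, V₀, hVc, hVab, hVp, hV0⟩ :=
      Lib.SolvableMinNormal.exists_characteristic_pgroup (G := L)
    have hVn : V₀.Normal := inferInstance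
    have hpf : Fact p.Prime := ⟨hp⟩
    -- the elements of `V` in `G`
    obtain ⟨⟨w, hw⟩, hw1'⟩ := Subgroup.ne_bot_iff_exists_ne_one.1 hV0
    have hw1 : w ≠ 1 := fun h => hw1' (Subtype.ext h)
    obtain ⟨k, hk⟩ := (IsPGroup.iff_orderOf.1 hVp) ⟨w, hw⟩
    have hk' : orderOf w = p ^ k := by rw [← hk]; exact (Subgroup.orderOf_mk w hw).symm
    have hk0 : k ≠ 0 := by
      rintro rfl
      rw [pow_zero, orderOf_eq_one_iff] at hk'
      exact hw1 hk'
    obtain ⟨j, rfl⟩ : ∃ j, k = j + 1 := ⟨k - 1, by omega⟩
    set v : L := w ^ p ^ j with hvdef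
    have hvV : v ∈ V₀ := V₀.pow_mem hw _
    have hvo : orderOf v = p := by
      rw [hvdef, orderOf_pow_of_dvd (pow_ne_zero _ hp.ne_zero), hk', pow_succ,
        Nat.mul_div_cancel_left _ (pow_pos hp.pos _)]
      rw [hk', pow_succ]
      exact dvd_mul_right _ _
    have hvG : orderOf (v : G) = p := by rw [Subgroup.orderOf_coe, hvo]
    have hv1 : (v : G) ≠ 1 := by
      intro h
      rw [h, orderOf_one] at hvG
      exact hp.one_lt.ne hvG
    have hcomm : ∀ u ∈ V₀, (u : G) * v = v * u := by
      intro u hu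
      have := hVab.is_comm.comm ⟨u, hu⟩ ⟨v, hvV⟩
      exact congrArg (fun z : V₀ => ((z : L) : G)) this
    have hconj : ∀ g : L, g * v * g⁻¹ ∈ V₀ := fun g => hVn.conj_mem v hvV g
    by_cases hvf : (v : G) ∈ Cfsg.Agent.LieExceptional.SuzukiTori.Hyp.free G Ω
    · -- `v` is free
      have hnorm : ∀ g : L, (g : G) ∈
          Subgroup.normalizer ((Subgroup.centralizer ({(v : G)} : Set G) : Subgroup G) : Set G) := by
        intro g
        have h1 : ((g * v * g⁻¹ : L) : G) ∈ Subgroup.centralizer ({(v : G)} : Set G) :=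
          Subgroup.mem_centralizer_singleton_iff.2 (hcomm _ (hconj g))
        have h2 : ((g * v * g⁻¹ : L) : G) ≠ 1 := by
          intro h
          apply hv1
          have h3 : g * v * g⁻¹ = 1 := Subtype.ext h
          have h4 : v = 1 := by
            have := congrArg (fun z => g⁻¹ * z * g) h3
            simpa [mul_assoc] using this
          rw [h4]; rfl
        have h3 := H.centralizer_eq hvf h1 h2
        apply Subgroup.mem_normalizer_fintype
        intro n hn
        rw [SetLike.mem_coe, Subgroup.mem_centralizer_singleton_iff] at hn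
        rw [SetLike.mem_coe, ← h3, Subgroup.mem_centralizer_singleton_iff]
        push_cast
        calc (g : G) * n * (g : G)⁻¹ * ((g : G) * v * (g : G)⁻¹) = g * (n * v) * (g : G)⁻¹ := by
              group
          _ = g * (v * n) * (g : G)⁻¹ := by rw [hn]
          _ = _ := by group
      have hxC : x ∈ Subgroup.centralizer ({(v : G)} : Set G) := by
        have h4 := H.norm_of_free hvf
        set C := Subgroup.centralizer ({(v : G)} : Set G) with hCdef
        set N := Subgroup.normalizer (C : Set G) with hNdef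
        have hCn : (C.subgroupOf N).Normal := Subgroup.normal_in_normalizer
        have h6 : C.relIndex N ≤ 4 := by
          have h7 : Nat.card C * C.relIndex N = Nat.card N := by
            rw [Subgroup.relIndex, ← Subgroup.card_mul_index (C.subgroupOf N)]
            congr 1
            exact (Nat.card_congr (Subgroup.subgroupOfEquivOfLe Subgroup.le_normalizer).toEquiv).symm
          have h8 : 0 < Nat.card C := Nat.card_pos
          by_contra hcon
          push Not at hcon
          have : 5 * Nat.card C ≤ Nat.card C * C.relIndex N := by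
            rw [mul_comm (Nat.card C)]
            exact Nat.mul_le_mul_right _ hcon
          omega
        let y : N ⧸ C.subgroupOf N := QuotientGroup.mk' _ ⟨x, hnorm ⟨x, hxL⟩⟩
        have h7 : orderOf y ∣ r := by
          rw [← hx, ← Subgroup.orderOf_mk x (hnorm ⟨x, hxL⟩)]
          exact orderOf_map_dvd _ _
        have h8 : orderOf y ≤ 4 := by
          refine (Nat.le_of_dvd Nat.card_pos (orderOf_dvd_natCard y)).trans ?_
          exact h6
        rcases (Nat.dvd_prime hr).1 h7 with h9 | h9
        · rw [orderOf_eq_one_iff] at h9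
          have h10 : (⟨x, hnorm ⟨x, hxL⟩⟩ : N) ∈ C.subgroupOf N :=
            (QuotientGroup.eq_one_iff (N := C.subgroupOf N) _).1 h9
          exact h10
        · omega
      have h5' := H.centralizer_eq hvf hxC hx1
      intro g hg
      rw [h5']
      exact hnorm ⟨g, hg⟩
    · -- `v` has one or two fixed points
      exfalso
      have hW1 : Nat.card (fixedBy Ω (v : G)) ≠ 0 := hvf
      have hW2 := H.three _ hv1
      have hne : (fixedBy Ω (v : G)).Nonempty := by
        rw [← Set.nonempty_coe_sort]
        exact (Nat.card_ne_zero.1 hW1).1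
      obtain ⟨a, ha⟩ := hne
      have hfix : ∀ u ∈ V₀, ∀ b ∈ fixedBy Ω (v : G), (u : G) • b = b := by
        intro u hu b hb
        have hmem : ∀ c ∈ fixedBy Ω (v : G), (u : G) • c ∈ fixedBy Ω (v : G) := by
          intro c hc
          rw [mem_fixedBy] at hc ⊢
          rw [← mul_smul, ← hcomm u hu, mul_smul, hc]
        rcases hp.eq_two_or_odd' with rfl | hpo
        · have h1 := Cfsg.Agent.LieExceptional.SuzukiTori.card_modEq_fixedBy (Ω := Ω)
            Nat.prime_two (h := (v : G)) (by rw [← hvG, pow_orderOf_eq_one])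
          rw [H.card_set] at h1
          have h2 := H.even_q
          have h3 : Nat.card (fixedBy Ω (v : G)) = 1 := by
            have h4 : (q ^ 2 + 1) % 2 = 1 := by
              have : Even (q ^ 2) := h2.pow_of_ne_zero two_ne_zero
              rw [Nat.even_iff] at this
              omega
            unfold Nat.ModEq at h1
            omega
          have h5 : Subsingleton (fixedBy Ω (v : G)) := (Nat.card_eq_one_iff_unique.1 h3).1
          have h6 := h5.elim (⟨_, hmem b hb⟩ : fixedBy Ω (v : G)) ⟨b, hb⟩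
          exact congrArg Subtype.val h6
        · obtain ⟨i, hi⟩ := (IsPGroup.iff_orderOf.1 hVp) ⟨u, hu⟩
          rw [Subgroup.orderOf_mk, ← Subgroup.orderOf_coe] at hi
          exact smul_eq_of_mem (by rw [hi]; exact hpo.pow) hW2 hmem hb
      have hxW : ∀ b ∈ fixedBy Ω (v : G), x • b ∈ fixedBy Ω (v : G) := by
        intro b hb
        have h1 : ((((⟨x, hxL⟩ : L)⁻¹ * v * (⟨x, hxL⟩ : L)⁻¹⁻¹ : L) : G)) • b = b :=
          hfix _ (hconj _) b hb
        push_cast at h1
        rw [inv_inv] at h1
        rw [mem_fixedBy]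
        have h2 : x • ((x⁻¹ * (v : G) * x) • b) = x • b := by
          have : ((x⁻¹ * (v : G) * x) • b) = b := by simpa using h1
          rw [this]
        calc (v : G) • x • b = x • ((x⁻¹ * (v : G) * x) • b) := by
              rw [← mul_smul, ← mul_smul]
              congr 1
              group
          _ = x • b := h2
      exact hfree' a (smul_eq_of_mem hodd hW2 hxW ha)

end Cfsg.Agent.H99.SolvGenSz
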