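import Cfsg.Agent.ChevalleyStructure.RootComb
import Cfsg.Agent.ChevalleyStructure.WeylConj

/-!
# The longest element of a standard parabolic subgroup of the Weyl group, as a word
-/

set_option autoImplicit false

namespace Cfsg.Agent.H99

open Cfsg.Lie Cfsg.Agent.ChevalleyStructure.RootCombGood Cfsg.Agent.ChevalleyStructure.WeylConj

section

variable {D : ChevalleyDatum}

theorem actW_lt (G : Good D) (w : List ℕ) (hw : ∀ i ∈ w, i < D.rank) {s : ℕ}
    (hs : s < D.nroots) : actW D w s < D.nroots := by
  induction w with
  | nil => exact hs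
  | cons i w ih =>
    rw [actW_cons]
    exact G.reflect_lt (hw i (by simp)) (ih fun j hj => hw j (by simp [hj]))

/-- the coordinates of `w s` are a linear function of the coordinates of `s` -/
theorem co_actW (G : Good D) (w : List ℕ) (hw : ∀ i ∈ w, i < D.rank) {s : ℕ}
    (hs : s < D.nroots) {j : ℕ} (hj : j < D.rank) :
    co D (actW D w s) j = ∑ k ∈ Finset.range D.rank, co D s k * co D (actW D w (D.simple k)) j := by
  induction w generalizing j with
  | nil =>
    simp only [actW_nil]
    rw [Finset.sum_eq_single j]
    · rw [G.co_simple hj hj, if_pos rfl, mul_one]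
    · intro k hk hkj
      rw [G.co_simple (Finset.mem_range.1 hk) hj, if_neg hkj, mul_zero]
    · intro h
      exact absurd (Finset.mem_range.2 hj) h
  | cons i w ih =>
    have hi : i < D.rank := hw i (by simp)
    have hw' : ∀ j ∈ w, j < D.rank := fun j hj => hw j (by simp [hj])
    rw [actW_cons, G.co_reflect hi (actW_lt G w hw' hs) hj, ih hw' hj]
    have h1 : ∀ k ∈ Finset.range D.rank, co D s k * co D (actW D (i :: w) (D.simple k)) j =
        co D s k * co D (actW D w (D.simple k)) j -
          (if j = i then co D s k * car D (actW D w (D.simple k)) (D.simple i) else 0) := by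
      intro k hk
      rw [actW_cons, G.co_reflect hi (actW_lt G w hw' (G.simple_lt (Finset.mem_range.1 hk))) hj]
      split_ifs <;> ring
    rw [Finset.sum_congr rfl h1, Finset.sum_sub_distrib]
    congr 1
    split_ifs with hji
    · unfold car
      rw [Finset.sum_congr rfl (g := fun x => ∑ k ∈ Finset.range D.rank,
        co D s k * (co D (actW D w (D.simple k)) x * D.cartan x (D.simple i)))]
      · rw [Finset.sum_comm]
        refine Finset.sum_congr rfl fun k hk => ?_
        rw [Finset.mul_sum]
      · intro x hx
        rw [ih hw' (Finset.mem_range.1 hx), Finset.sum_mul]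
        refine Finset.sum_congr rfl fun k hk => ?_
        ring
    · simp

theorem pos_or_neg (G : Good D) {r : ℕ} (hr : r < D.nroots) : D.IsPosRoot r ∨ D.IsNegRoot r := by
  rw [G.isPosRoot_iff, G.isNegRoot_iff]
  omega

theorem not_pos_neg (G : Good D) {r : ℕ} (h1 : D.IsPosRoot r) (h2 : D.IsNegRoot r) : False := by
  rw [G.isPosRoot_iff] at h1
  rw [G.isNegRoot_iff] at h2
  omega

theorem neg_pos (G : Good D) {r : ℕ} (h1 : D.IsPosRoot r) : D.IsNegRoot (D.neg r) := by
  rw [G.isPosRoot_iff] at h1
  rw [G.isNegRoot_iff, G.neg_eq h1.2]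
  have := G.nroots_eq
  omega

theorem actW_neg (G : Good D) (w : List ℕ) (hw : ∀ i ∈ w, i < D.rank) {s : ℕ}
    (hs : s < D.nroots) : actW D w (D.neg s) = D.neg (actW D w s) := by
  induction w with
  | nil => rfl
  | cons i w ih =>
    rw [actW_cons, actW_cons, ih fun j hj => hw j (by simp [hj]),
      G.reflect_neg (hw i (by simp)) (actW_lt G w (fun j hj => hw j (by simp [hj])) hs)]

/-- a word in `J` making all positive roots of `Φ_J` negative -/
theorem exists_word_J (G : Good D) (J : Set ℕ) (hJ : ∀ j ∈ J, j < D.rank) :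
    ∃ w : List ℕ, (∀ i ∈ w, i ∈ J) ∧
      ∀ s, D.IsPosRoot s → D.InRootSub J s → D.IsNegRoot (actW D w s) := by
  classical
  let N : List ℕ → Finset ℕ := fun w => (Finset.range D.nroots).filter fun s =>
    D.IsPosRoot s ∧ D.InRootSub J s ∧ D.IsNegRoot (actW D w s)
  have hbound : ∀ w, (N w).card ≤ D.nroots := fun w => by
    refine (Finset.card_filter_le _ _).trans ?_
    rw [Finset.card_range]
  -- a maximal word
  obtain ⟨w, hw, hmax⟩ : ∃ w : List ℕ, (∀ i ∈ w, i ∈ J) ∧
      ∀ w' : List ℕ, (∀ i ∈ w', i ∈ J) → (N w').card ≤ (N w).card := by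
    by_contra hcon
    push Not at hcon
    have : ∀ n : ℕ, ∃ w : List ℕ, (∀ i ∈ w, i ∈ J) ∧ n ≤ (N w).card := by
      intro n
      induction n with
      | zero => exact ⟨[], by simp, Nat.zero_le _⟩
      | succ n ih =>
        obtain ⟨w, hw, hn⟩ := ih
        obtain ⟨w', hw', hlt⟩ := hcon w hw
        exact ⟨w', hw', by omega⟩
    obtain ⟨w, -, h⟩ := this (D.nroots + 1)
    have := hbound w
    omega
  have hwr : ∀ i ∈ w, i < D.rank := fun i hi => hJ i (hw i hi)
  -- simple roots of `J` become negative
  have hsimple : ∀ j ∈ J, D.IsNegRoot (actW D w (D.simple j)) := by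
    intro j hj
    have hjr := hJ j hj
    rcases pos_or_neg G (actW_lt G w hwr (G.simple_lt hjr)) with hp | hn
    · exfalso
      have hw' : ∀ i ∈ w ++ [j], i ∈ J := by
        intro i hi
        rcases List.mem_append.1 hi with h | h
        · exact hw i h
        · rw [List.mem_singleton.1 h]; exact hj
      have hact : ∀ s, actW D (w ++ [j]) s = actW D w (D.reflectRoot j s) := by
        intro s
        rw [actW_append, actW_cons, actW_nil]
      have hInJ : ∀ s, s < D.nroots → D.InRootSub J s → D.InRootSub J (D.reflectRoot j s) := by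
        intro s hs h
        refine ⟨G.reflect_lt hjr hs, fun i hi hiJ => ?_⟩
        change co D _ i = 0
        rw [G.co_reflect hjr hs hi, if_neg (by rintro rfl; exact hiJ hj)]
        have : co D s i = 0 := h.2 i hi hiJ
        rw [this, sub_zero]
      have hsj : D.InRootSub J (D.simple j) := by
        refine ⟨G.simple_lt hjr, fun i hi hiJ => ?_⟩
        change co D _ i = 0
        rw [G.co_simple hjr hi, if_neg (by rintro rfl; exact hiJ hj)]
      -- injection
      have hsub : insert (D.simple j) ((N w).image (D.reflectRoot j)) ⊆ N (w ++ [j]) := by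
        intro s hs
        rcases Finset.mem_insert.1 hs with rfl | hs
        · refine Finset.mem_filter.2 ⟨Finset.mem_range.2 (G.simple_lt hjr), G.simple_pos hjr, hsj, ?_⟩
          rw [hact, G.reflect_simple hjr, actW_neg G w hwr (G.simple_lt hjr)]
          exact neg_pos G hp
        · obtain ⟨s', hs', rfl⟩ := Finset.mem_image.1 hs
          obtain ⟨h1, h2, h3, h4⟩ := Finset.mem_filter.1 hs'
          have h1 := Finset.mem_range.1 h1
          have hne : s' ≠ D.simple j := by
            rintro rfl
            exact not_pos_neg G hp h4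
          refine Finset.mem_filter.2 ⟨Finset.mem_range.2 (G.reflect_lt hjr h1),
            G.reflect_pos hjr h2 hne, hInJ s' h1 h3, ?_⟩
          rw [hact, G.reflect_reflect hjr h1]
          exact h4
      have hcard := Finset.card_le_card hsub
      have hnotin : D.simple j ∉ (N w).image (D.reflectRoot j) := by
        intro h
        obtain ⟨s', hs', hs2⟩ := Finset.mem_image.1 h
        obtain ⟨h1, h2, h3, h4⟩ := Finset.mem_filter.1 hs'
        have h1 := Finset.mem_range.1 h1
        have h5 := G.reflect_reflect hjr h1
        rw [hs2, G.reflect_simple hjr] at h5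
        rw [← h5] at h2
        exact not_pos_neg G h2 (neg_pos G (G.simple_pos hjr))
      have hinj : ((N w).image (D.reflectRoot j)).card = (N w).card := by
        apply Finset.card_image_of_injOn
        intro a ha b hb hab
        have h1 := Finset.mem_range.1 (Finset.mem_filter.1 (Finset.mem_coe.1 ha)).1
        have h2 := Finset.mem_range.1 (Finset.mem_filter.1 (Finset.mem_coe.1 hb)).1
        rw [← G.reflect_reflect hjr h1, ← G.reflect_reflect hjr h2]
        exact congrArg _ hab
      rw [Finset.card_insert_of_notMem hnotin, hinj] at hcard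
      have := hmax _ hw'
      omega
    · exact hn
  refine ⟨w, hw, fun s hs hsJ => ?_⟩
  have hs0 : s < D.nroots := hs.1
  rw [G.isNegRoot_iff_co]
  refine ⟨actW_lt G w hwr hs0, fun i hi => ?_⟩
  rw [co_actW G w hwr hs0 hi]
  apply Finset.sum_nonpos
  intro k hk
  have hk := Finset.mem_range.1 hk
  by_cases hkJ : k ∈ J
  · have h1 : 0 ≤ co D s k := (G.isPosRoot_iff_co.1 hs).2 k hk
    have h2 : co D (actW D w (D.simple k)) i ≤ 0 := (G.isNegRoot_iff_co.1 (hsimple k hkJ)).2 i hi
    exact mul_nonpos_of_nonneg_of_nonpos h1 h2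
  · have h1 : co D s k = 0 := hsJ.2 k hk hkJ
    rw [h1, zero_mul]

end

end Cfsg.Agent.H99
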